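import Groth.Agent.EtPBC63.Proper0.Stalk
import Groth.Agent.EtFound.FiniteBaseChange

/-!
# Base change in degree zero for proper morphisms
-/

universe u

open CategoryTheory CategoryTheory.Limits AlgebraicGeometry Opposite

namespace Groth.Agent.EtPBC63.Proper0

open EtFound FlatConn

set_option backward.isDefEq.respectTransparency.types false

variable {X Y X' Y' : Scheme.{u}} {f : X ⟶ Y} {f' : X' ⟶ Y'} {g' : X' ⟶ X} {g : Y' ⟶ Y}

theorem isPullback_geomFibre (h : IsPullback g' f' f g) {Ω : Type u} [Field Ω]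
    (ζ : Spec (CommRingCat.of Ω) ⟶ Y') :
    IsPullback (pullback.fst f' ζ ≫ g') (pullback.snd f' ζ) f (ζ ≫ g) :=
  ((IsPullback.of_hasPullback f' ζ).flip.paste_vert h.flip).flip

/-- Degree zero base change for a proper morphism. -/
theorem isIso_baseChange0_of_isProper [IsProper f] (h : IsPullback g' f' f g) (F : EtCoh.Ab X) :
    IsIso (EtCoh.baseChange0 f g f' g' h.w F) := by
  haveI : IsProper f' := MorphismProperty.of_isPullback h ‹IsProper f›
  let β := EtCoh.baseChange0 f g f' g' h.w F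
  let G := (EtCoh.push f).obj F
  let P := (EtCoh.pull g').obj F
  refine isIso_of_stalks β fun Ω _ _ ζ => ?_
  let Φ := Scheme.pointSmallEtale ζ
  let p' := pullback.fst f' ζ
  let η : Spec (CommRingCat.of Ω) ⟶ Y := ζ ≫ g
  have hp := isPullback_geomFibre h ζ
  let ι : pullback f' ζ ⟶ pullback f η := hp.isoPullback.hom
  obtain ⟨Ψ, hΨ, hΨres⟩ := exists_transfer (p' ≫ g') F ι (unitBij_of_isIso ι) (pullback.fst f η)
    hp.isoPullback_hom_fst
  obtain ⟨Θ, hΘ, hΘres⟩ := exists_pullTransfer F p' g'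
  let L : (EtCoh.stalk η).obj G → (EtCoh.stalk ζ).obj ((EtCoh.pull g).obj G) :=
    (sheafFiberPullIso (A := AddCommGrpCat.{u + 1}) g ζ).inv.app G
  have hL : Function.Bijective L :=
    (ConcreteCategory.isIso_iff_bijective ((sheafFiberPullIso (A := AddCommGrpCat.{u + 1}) g ζ).inv.app G)).mp
      inferInstance
  have key : ∀ c, cmp f' ζ P (Φ.presheafFiber.map β.hom (L c)) = Θ (Ψ (cmp f η F c)) := by
    intro c
    obtain ⟨V, u, s, rfl⟩ := (Scheme.pointSmallEtale (ζ ≫ g)).toPresheafFiber_jointly_surjective c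
    let z := (bcFiberEquiv g ζ V).symm u
    have e1 : L ((Scheme.pointSmallEtale (ζ ≫ g)).toPresheafFiber V u G.obj s) =
        Φ.toPresheafFiber _ z ((EtCoh.pull g).obj G).obj (pb g G V s) := by
      have := germ_pb g G V z s
      rwa [Equiv.apply_symm_apply] at this
    have e2 : Φ.presheafFiber.map β.hom (Φ.toPresheafFiber _ z ((EtCoh.pull g).obj G).obj (pb g G V s)) =
        Φ.toPresheafFiber _ z ((EtCoh.push f').obj P).obj (P.obj.map (bcSquare h.w V).op (pb g' F _ s)) :=
      (stalk_map_germ β _ z _).trans (congrArg _ (ConcreteCategory.congr_hom (baseChange0_unit f g f' g' h.w F V) s))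
    refine (congrArg (fun x => cmp f' ζ P (Φ.presheafFiber.map β.hom x)) e1).trans ((congrArg (cmp f' ζ P) e2).trans ?_)
    refine (cmp_germ f' ζ P _ z _).trans ?_
    refine (res_map _ P (bcSquare h.w V) (mV f' ζ _ z) (mV_hom f' ζ _ z) _).trans ?_
    have hm₀ : ((mV f' ζ ((EtCoh.bc g).obj V) z ≫ (bcSquare h.w V).left) ≫ pullback.fst ((EtCoh.bc f).obj V).hom g') ≫
        ((EtCoh.bc f).obj V).hom = p' ≫ g' := by
      refine (Category.assoc _ _ _).trans ((congrArg (_ ≫ ·) pullback.condition).trans ?_)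
      refine (Category.assoc _ _ _).symm.trans (congrArg (· ≫ g') ?_)
      refine (Category.assoc _ _ _).trans ((congrArg (_ ≫ ·) (MorphismProperty.Over.w (bcSquare h.w V))).trans ?_)
      exact mV_hom f' ζ _ z
    refine (hΘres _ _ _ hm₀ s).trans (congrArg Θ ?_)
    refine Eq.trans ?_ ((congrArg Ψ (cmp_germ f η F V u s)).trans (hΨres _ _ _ s)).symm
    refine res_congr (p' ≫ g') F ((EtCoh.bc f).obj V) ?_ _ s
    refine pullback.hom_ext ?_ ?_
    · refine ((Category.assoc _ _ _).trans ((Category.assoc _ _ _).trans (congrArg (mV f' ζ _ z ≫ ·)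
        (bcSquare_fst h.w V)))).trans ?_
      refine (Category.assoc _ _ _).symm.trans ((congrArg (· ≫ pullback.fst V.hom g) (pullback.lift_fst _ _ _)).trans ?_)
      refine Eq.trans ?_ ((Category.assoc _ _ _).trans (congrArg (ι ≫ ·) (pullback.lift_fst _ _ _))).symm
      refine (Category.assoc _ _ _).trans ?_
      refine Eq.trans ?_ ((Category.assoc _ _ _).trans rfl)
      exact congrArg₂ (fun a b => a ≫ b) hp.isoPullback_hom_snd.symm (pullback.lift_fst _ _ _)
    · refine hm₀.trans ?_
      exact ((Category.assoc _ _ _).trans ((congrArg (ι ≫ ·) (mV_hom f η V u)).trans hp.isoPullback_hom_fst)).symm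
  have hcomp : (cmp f' ζ P ∘ Φ.presheafFiber.map β.hom) ∘ L = Θ ∘ Ψ ∘ cmp f η F := funext key
  have hb : Function.Bijective ((cmp f' ζ P ∘ Φ.presheafFiber.map β.hom) ∘ L) := by
    rw [hcomp]; exact hΘ.comp (hΨ.comp (bijective_cmp f η F))
  exact (Function.Bijective.of_comp_iff' (bijective_cmp f' ζ P) _).mp ((Function.Bijective.of_comp_iff _ hL).mp hb)

end Groth.Agent.EtPBC63.Proper0
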