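import Groth.Agent.EtLC12.StrictStalk
import Groth.Agent.SpecLib.Basic
import Mathlib.RingTheory.Ideal.GoingDown
import Mathlib.AlgebraicGeometry.Morphisms.Flat

/-!
# Affine neighbourhoods of a geometric point and the scheme `Spec` of the étale local ring

The spectrum of the étale local ring maps to the base, every generization of the point at a stage
lifts to it, and open subsets of schemes over it come from finite stages.
-/

universe u

open CategoryTheory CategoryTheory.Limits AlgebraicGeometry Opposite TensorProduct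

namespace Groth.Agent.EtPBC63.Proper0

open EtLC12.StrictStalk

set_option backward.isDefEq.respectTransparency false
set_option backward.isDefEq.respectTransparency.types false

variable {Y : Scheme.{u}} {Ω : Type u} [Field Ω] [IsSepClosed Ω] {ξ : Spec (CommRingCat.of Ω) ⟶ Y}

/-- A refinement of affine neighbourhoods. -/
structure Refine (N P : Nbhd ξ) where
  ψ : N.B ⟶ P.B
  w_g : Spec.map ψ ≫ N.g = P.g
  w_φ : ψ ≫ P.φ = N.φ

theorem Refine.germ {N P : Nbhd ξ} (r : Refine N P) : r.ψ ≫ P.germ = N.germ :=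
  Nbhd.germ_comp r.ψ r.w_g r.w_φ

theorem Refine.spec_germ {N P : Nbhd ξ} (r : Refine N P) :
    Spec.map P.germ ≫ Spec.map r.ψ = Spec.map N.germ := by
  rw [← Spec.map_comp, r.germ]

theorem Refine.germ_apply {N P : Nbhd ξ} (r : Refine N P) (b : N.B) : P.germ (r.ψ b) = N.germ b :=
  congr(($(r.germ)).hom b)

/-- The trivial refinement. -/
def Refine.refl (N : Nbhd ξ) : Refine N N where
  ψ := 𝟙 _
  w_g := by simp
  w_φ := by simp

/-- Composition of refinements. -/
def Refine.trans {N P Q : Nbhd ξ} (r : Refine N P) (s : Refine P Q) : Refine N Q where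
  ψ := r.ψ ≫ s.ψ
  w_g := by rw [Spec.map_comp, Category.assoc, r.w_g, s.w_g]
  w_φ := by rw [Category.assoc, s.w_φ, r.w_φ]

theorem Refine.etale {N P : Nbhd ξ} (r : Refine N P) : Etale (Spec.map r.ψ) := by
  haveI := N.etale
  haveI : Etale (Spec.map r.ψ ≫ N.g) := by rw [r.w_g]; exact P.etale
  exact Etale.of_comp (Spec.map r.ψ) N.g

theorem exists_refine {N M : Nbhd ξ} (c : M.obj ⟶ N.obj)
    (hc : (Scheme.pointSmallEtale ξ).fiber.map c M.pt = N.pt) :
    ∃ r : Refine N M, Spec.map r.ψ = c.left := by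
  obtain ⟨ψ, hψ⟩ := Spec.map_surjective (c.left : Spec M.B ⟶ Spec N.B)
  have h : Spec.map M.φ ≫ (c.left : Spec M.B ⟶ Spec N.B) = Spec.map N.φ :=
    congrArg CommaMorphism.left hc
  exact ⟨⟨ψ, by rw [hψ]; exact MorphismProperty.Over.w c,
    Spec.map_injective (by rw [Spec.map_comp, hψ, h])⟩, hψ⟩

theorem exists_common_refine (N M : Nbhd ξ) :
    ∃ P : Nbhd ξ, Nonempty (Refine N P) ∧ Nonempty (Refine M P) := by
  obtain ⟨⟨T, t⟩, ⟨a₀, ha₀⟩, ⟨b₀, hb₀⟩, -⟩ := IsCofilteredOrEmpty.cone_objs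
    ((Scheme.pointSmallEtale ξ).fiber.elementsMk N.obj N.pt)
    ((Scheme.pointSmallEtale ξ).fiber.elementsMk M.obj M.pt)
  obtain ⟨a, ha⟩ : ∃ a : T ⟶ N.obj, (Scheme.pointSmallEtale ξ).fiber.map a t = N.pt := ⟨a₀, ha₀⟩
  obtain ⟨b, hb⟩ : ∃ b : T ⟶ M.obj, (Scheme.pointSmallEtale ξ).fiber.map b t = M.pt := ⟨b₀, hb₀⟩
  obtain ⟨P, j, rfl⟩ := exists_nbhd T t
  obtain ⟨ra, -⟩ := exists_refine (j ≫ a)
    ((congr($((Scheme.pointSmallEtale ξ).fiber.map_comp j a) P.pt)).trans ha)
  obtain ⟨rb, -⟩ := exists_refine (j ≫ b)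
    ((congr($((Scheme.pointSmallEtale ξ).fiber.map_comp j b) P.pt)).trans hb)
  exact ⟨P, ⟨ra⟩, ⟨rb⟩⟩

theorem exists_refine_finset {ι : Type*} (s : Finset ι) (N : Nbhd ξ) (M : ι → Nbhd ξ) :
    ∃ (P : Nbhd ξ), Nonempty (Refine N P) ∧ ∀ i ∈ s, Nonempty (Refine (M i) P) := by
  classical
  induction s using Finset.induction with
  | empty => exact ⟨N, ⟨Refine.refl N⟩, fun i hi => absurd hi (Finset.notMem_empty i)⟩
  | insert a s _ ih =>
    obtain ⟨P, ⟨r⟩, hP⟩ := ih
    obtain ⟨Q, ⟨t⟩, ⟨t'⟩⟩ := exists_common_refine P (M a)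
    refine ⟨Q, ⟨r.trans t⟩, fun i hi => ?_⟩
    rcases Finset.mem_insert.mp hi with rfl | hi
    · exact ⟨t'⟩
    · exact ⟨(hP i hi).some.trans t⟩

/-- Finitely many elements of the étale local ring come from a common stage. -/
theorem exists_stage_finset (N : Nbhd ξ) {ι : Type*} (s : Finset ι) (a : ι → EtBase.etaleLocalRing ξ) :
    ∃ (P : Nbhd ξ) (_ : Refine N P) (x : ι → P.B), ∀ i ∈ s, P.germ (x i) = a i := by
  classical
  choose M b hb using fun i => exists_germ_eq (a i)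
  obtain ⟨P, ⟨r⟩, hP⟩ := exists_refine_finset s N M
  refine ⟨P, r, fun i => if h : i ∈ s then (hP i h).some.ψ (b i) else 0, fun i hi => ?_⟩
  simp only [dif_pos hi]
  rw [Refine.germ_apply, hb]

/-- Elements with the same germ agree at some stage. -/
theorem exists_refine_eq (N : Nbhd ξ) {b b' : N.B} (h : N.germ b = N.germ b') :
    ∃ (P : Nbhd ξ) (r : Refine N P), r.ψ b = r.ψ b' := by
  obtain ⟨T, f, t, hft, he⟩ := ((Scheme.pointSmallEtale ξ).toPresheafFiber_eq_iff' (P := EtBase.OO Y)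
    N.obj N.pt ((Scheme.ΓSpecIso N.B).inv b) ((Scheme.ΓSpecIso N.B).inv b')).1 h
  obtain ⟨P, j, rfl⟩ := exists_nbhd T t
  obtain ⟨r, hr⟩ := exists_refine (j ≫ f)
    ((congr($((Scheme.pointSmallEtale ξ).fiber.map_comp j f) P.pt)).trans hft)
  refine ⟨P, r, ?_⟩
  have key : ∀ c : N.B, r.ψ c = (Scheme.ΓSpecIso P.B).hom
      (j.left.appTop (f.left.appTop ((Scheme.ΓSpecIso N.B).inv c))) := fun c => by
    have h1 : (Scheme.ΓSpecIso N.B).inv ≫ (Spec.map r.ψ).appTop ≫ (Scheme.ΓSpecIso P.B).hom = r.ψ := by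
      rw [← Scheme.ΓSpecIso_inv_naturality_assoc, Iso.inv_hom_id, Category.comp_id]
    rw [show Spec.map r.ψ = j.left ≫ f.left from hr, Scheme.Hom.comp_appTop] at h1
    exact (congr(($h1).hom c)).symm
  rw [key, key]
  exact congrArg (fun z => (Scheme.ΓSpecIso P.B).hom (j.left.appTop z)) he

variable (ξ) in
/-- A neighbourhood of the geometric point. -/
noncomputable def base : Nbhd ξ :=
  (exists_nbhd (EtCoh.top Y) (Over.homMk ξ (Category.comp_id _))).choose

variable (ξ) in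
/-- The morphism from the spectrum of the étale local ring to the base. -/
noncomputable def toScheme : Spec (EtBase.etaleLocalRing ξ) ⟶ Y :=
  Spec.map (base ξ).germ ≫ (base ξ).g

theorem germ_g (N : Nbhd ξ) : Spec.map N.germ ≫ N.g = toScheme ξ := by
  obtain ⟨P, ⟨a⟩, ⟨b⟩⟩ := exists_common_refine N (base ξ)
  rw [toScheme, ← a.spec_germ, ← b.spec_germ, Category.assoc, Category.assoc, a.w_g, b.w_g]

theorem specMap_ev_germ (N : Nbhd ξ) : Spec.map (ev ξ) ≫ Spec.map N.germ = Spec.map N.φ := by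
  rw [← Spec.map_comp, N.germ_ev]

theorem specMap_ev_toScheme : Spec.map (ev ξ) ≫ toScheme ξ = ξ := by
  rw [toScheme, ← Category.assoc, specMap_ev_germ, (base ξ).w]

/-- The image of the geometric point at a stage. -/
noncomputable def cpt (N : Nbhd ξ) : ↥(Spec N.B) :=
  (Spec.map N.φ).base (default : Spec (CommRingCat.of Ω))

theorem cpt_mem_range (N : Nbhd ξ) : cpt N ∈ Set.range (Spec.map N.germ).base :=
  ⟨(Spec.map (ev ξ)).base default, (Scheme.Hom.comp_apply _ _ _).symm.trans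
    (congr(($(specMap_ev_germ N)).base default))⟩

theorem Refine.map_cpt {N P : Nbhd ξ} (r : Refine N P) : (Spec.map r.ψ).base (cpt P) = cpt N := by
  refine (Scheme.Hom.comp_apply _ _ _).symm.trans ?_
  rw [← Spec.map_comp, r.w_φ]
  rfl

/-- A neighbourhood can be shrunk into any open set containing the point. -/
theorem exists_refine_subset (N : Nbhd ξ) {U : Set ↥(Spec N.B)} (hU : IsOpen U) (hN : cpt N ∈ U) :
    ∃ (P : Nbhd ξ) (r : Refine N P), Set.range (Spec.map r.ψ).base ⊆ U := by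
  obtain ⟨-, ⟨b, rfl⟩, hb, hbU⟩ :=
    PrimeSpectrum.isTopologicalBasis_basic_opens.exists_subset_of_mem_open hN hU
  have hu : IsUnit (N.φ.hom b) := isUnit_iff_ne_zero.2 fun h0 => hb (by
    show N.φ.hom b ∈ (default : Spec (CommRingCat.of Ω)).asIdeal
    rw [h0]; exact zero_mem _)
  let ι : N.B ⟶ CommRingCat.of (Localization.Away b) := CommRingCat.ofHom (algebraMap _ _)
  let θ : CommRingCat.of (Localization.Away b) ⟶ CommRingCat.of Ω :=
    CommRingCat.ofHom (IsLocalization.Away.lift b (g := N.φ.hom) hu)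
  have hι : ι ≫ θ = N.φ := by
    ext x; exact IsLocalization.Away.lift_eq b hu x
  have : IsOpenImmersion (Spec.map ι) := IsOpenImmersion.of_isLocalization b
  have := N.etale
  let P : Nbhd ξ := ⟨CommRingCat.of (Localization.Away b), Spec.map ι ≫ N.g, inferInstance, θ,
    by rw [← Category.assoc, ← Spec.map_comp, hι, N.w]⟩
  refine ⟨P, ⟨ι, rfl, hι⟩, ?_⟩
  refine subset_trans ?_ hbU
  rintro _ ⟨x, rfl⟩
  show b ∉ Ideal.comap ι.hom x.asIdeal
  exact fun hx => x.isPrime.ne_top (Ideal.eq_top_of_isUnit_mem _ hx (IsLocalization.Away.algebraMap_isUnit b))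

/-- Every generization of the point at a stage lifts to the étale local ring. -/
theorem mem_range_germ (N : Nbhd ξ) {η : ↥(Spec N.B)} (h : η ⤳ cpt N) :
    η ∈ Set.range (Spec.map N.germ).base := by
  classical
  let p := η.asIdeal
  show η ∈ Set.range (PrimeSpectrum.comap N.germ.hom)
  rw [PrimeSpectrum.mem_range_comap_iff]
  refine le_antisymm (fun b hb => ?_) Ideal.le_comap_map
  have hb' : N.germ.hom b ∈ Submodule.span (EtBase.etaleLocalRing ξ) (N.germ.hom '' (p : Set N.B)) := hb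
  obtain ⟨n, c, g, hg⟩ := Submodule.mem_span_set'.mp hb'
  choose p' hp' hpg using fun i => (g i).2
  obtain ⟨P, r, x, hx⟩ := exists_stage_finset N (Finset.univ : Finset (Fin n)) c
  have he : P.germ (r.ψ b) = P.germ (∑ i, x i * r.ψ (p' i)) := by
    rw [map_sum, Refine.germ_apply]
    refine hg.symm.trans (Finset.sum_congr rfl fun i _ => ?_)
    rw [map_mul, Refine.germ_apply, hx i (Finset.mem_univ i), smul_eq_mul, hpg]
  obtain ⟨Q, s, hs⟩ := exists_refine_eq P he
  let t := r.trans s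
  have hbQ : t.ψ b ∈ p.map t.ψ.hom := by
    show s.ψ (r.ψ b) ∈ _
    rw [hs, map_sum]
    refine Submodule.sum_mem _ fun i _ => ?_
    rw [map_mul]
    exact Ideal.mul_mem_left _ _ (Ideal.mem_map_of_mem t.ψ.hom (hp' i))
  letI := t.ψ.hom.toAlgebra
  haveI : Module.Flat N.B Q.B := by
    haveI := t.etale
    have hflat : Flat (Spec.map t.ψ) := inferInstance
    rw [HasRingHomProperty.Spec_iff (P := @Flat)] at hflat
    exact hflat
  let q := (cpt Q).asIdeal
  haveI : q.LiesOver (cpt N).asIdeal := ⟨(congrArg PrimeSpectrum.asIdeal t.map_cpt).symm⟩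
  obtain ⟨p₁, -, hp₁, hover⟩ := q.exists_ideal_le_liesOver_of_le (p := p) (q := (cpt N).asIdeal)
    ((PrimeSpectrum.le_iff_specializes η (cpt N)).mpr h)
  have hle : p.map t.ψ.hom ≤ p₁ := Ideal.map_le_iff_le_comap.mpr hover.over.le
  exact hover.over.ge (hle hbQ)

section Descend

variable {R A : CommRingCat.{u}} {φ : R ⟶ A} {W L : Scheme.{u}} {w : W ⟶ Spec R} {pr : L ⟶ W}
  {st : L ⟶ Spec A} (h : IsPullback pr st w (Spec.map φ))

include h in
/-- An open neighbourhood in a fibre product with `Spec A` comes from every factorization through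
which finitely many given elements of `A` lift. -/
theorem exists_finset_open {O : Set L} (hO : IsOpen O) {q : L} (hq : q ∈ O) :
    ∃ (n : ℕ) (a : Fin n → A), ∀ (P : CommRingCat.{u}) (ψ : R ⟶ P) (γ : P ⟶ A) (hψ : ψ ≫ γ = φ)
      (x : Fin n → P), (∀ i, γ (x i) = a i) → ∀ (l : L ⟶ pullback w (Spec.map ψ)),
      l ≫ pullback.fst _ _ = pr → l ≫ pullback.snd _ _ = st ≫ Spec.map γ →
      ∃ O' : Set ↥(pullback w (Spec.map ψ)), IsOpen O' ∧ IsCompact O' ∧ l.base q ∈ O' ∧ l.base ⁻¹' O' ⊆ O := by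
  classical
  obtain ⟨U, hU, hqU, -⟩ := TopologicalSpace.Opens.isBasis_iff_nbhd.mp W.isBasis_affineOpens
    (TopologicalSpace.Opens.mem_top (pr.base q))
  let j : Spec Γ(W, U) ⟶ W := hU.fromSpec
  obtain ⟨β, hβ⟩ := Spec.map_surjective (j ≫ w)
  letI : Algebra R Γ(W, U) := β.hom.toAlgebra
  letI : Algebra R A := φ.hom.toAlgebra
  let inl : Γ(W, U) ⟶ CommRingCat.of (Γ(W, U) ⊗[R] A) :=
    CommRingCat.ofHom Algebra.TensorProduct.includeLeftRingHom
  let inr : A ⟶ CommRingCat.of (Γ(W, U) ⊗[R] A) :=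
    CommRingCat.ofHom Algebra.TensorProduct.includeRight.toRingHom
  have sqA : IsPullback (Spec.map inl) (Spec.map inr) (Spec.map β) (Spec.map φ) :=
    isPullback_SpecMap_of_isPushout _ _ _ _ (CommRingCat.isPushout_tensorProduct R Γ(W, U) A)
  let ιA : Spec (CommRingCat.of (Γ(W, U) ⊗[R] A)) ⟶ L :=
    h.lift (Spec.map inl ≫ j) (Spec.map inr) (by rw [Category.assoc, ← hβ]; exact sqA.w)
  have hιA : IsPullback (Spec.map inl) ιA j pr := by
    refine IsPullback.of_bot ?_ (h.lift_fst _ _ _).symm h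
    rw [h.lift_snd, ← hβ]; exact sqA
  have : IsOpenImmersion j := inferInstance
  have : IsOpenImmersion ιA := MorphismProperty.of_isPullback (P := @IsOpenImmersion) hιA inferInstance
  obtain ⟨x₀, hx₀⟩ : ∃ x₀, ιA.base x₀ = q := by
    obtain ⟨a, ha⟩ : pr.base q ∈ Set.range j.base := by
      show pr.base q ∈ Set.range hU.fromSpec.base
      rw [hU.range_fromSpec]; exact hqU
    obtain ⟨x₀, -, hx₀⟩ := Scheme.exists_preimage_of_isPullback hιA a q ha
    exact ⟨x₀, hx₀⟩
  obtain ⟨-, ⟨z, rfl⟩, hz, hzO⟩ := PrimeSpectrum.isTopologicalBasis_basic_opens.exists_subset_of_mem_open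
    (show x₀ ∈ ιA.base ⁻¹' O by rw [Set.mem_preimage, hx₀]; exact hq) (hO.preimage ιA.continuous)
  obtain ⟨s, hs⟩ := TensorProduct.exists_finset z
  let e := s.equivFin
  refine ⟨s.card, fun i => ((e.symm i : s) : Γ(W, U) × A).2, fun P ψ γ hψ x hx l hl₁ hl₂ => ?_⟩
  letI : Algebra R P := ψ.hom.toAlgebra
  let γ' : P →ₐ[R] A := { γ.hom with commutes' := fun b => congr(($hψ).hom b) }
  let θ : Γ(W, U) ⊗[R] P →ₐ[R] Γ(W, U) ⊗[R] A := Algebra.TensorProduct.map (AlgHom.id _ _) γ'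
  let z' : Γ(W, U) ⊗[R] P := ∑ i : s, i.1.1 ⊗ₜ x (e i)
  have hz' : θ z' = z := by
    rw [map_sum, hs, ← Finset.sum_coe_sort s (fun i => i.1 ⊗ₜ i.2)]
    refine Finset.sum_congr rfl fun i _ => ?_
    show i.1.1 ⊗ₜ[R] γ (x (e i)) = _
    rw [hx]
    simp only [Equiv.symm_apply_apply]
  let inlP : Γ(W, U) ⟶ CommRingCat.of (Γ(W, U) ⊗[R] P) :=
    CommRingCat.ofHom Algebra.TensorProduct.includeLeftRingHom
  let inrP : P ⟶ CommRingCat.of (Γ(W, U) ⊗[R] P) :=
    CommRingCat.ofHom Algebra.TensorProduct.includeRight.toRingHom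
  have sqP : IsPullback (Spec.map inlP) (Spec.map inrP) (Spec.map β) (Spec.map ψ) :=
    isPullback_SpecMap_of_isPushout _ _ _ _ (CommRingCat.isPushout_tensorProduct R Γ(W, U) P)
  let ιP : Spec (CommRingCat.of (Γ(W, U) ⊗[R] P)) ⟶ pullback w (Spec.map ψ) :=
    pullback.lift (Spec.map inlP ≫ j) (Spec.map inrP) (by rw [Category.assoc, ← hβ]; exact sqP.w)
  have hιP : IsPullback (Spec.map inlP) ιP j (pullback.fst w (Spec.map ψ)) := by
    refine IsPullback.of_bot ?_ (pullback.lift_fst _ _ _).symm (IsPullback.of_hasPullback w (Spec.map ψ))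
    rw [pullback.lift_snd, ← hβ]; exact sqP
  have : IsOpenImmersion ιP := MorphismProperty.of_isPullback (P := @IsOpenImmersion) hιP inferInstance
  let Θ := Spec.map (CommRingCat.ofHom θ.toRingHom)
  have h1 : Θ ≫ Spec.map inlP = Spec.map inl := by
    rw [← Spec.map_comp]; congr 1; ext c
    show θ (c ⊗ₜ 1) = c ⊗ₜ 1
    rw [Algebra.TensorProduct.map_tmul, map_one]; rfl
  have h2 : Θ ≫ Spec.map inrP = Spec.map inr ≫ Spec.map γ := by
    rw [← Spec.map_comp, ← Spec.map_comp]; congr 1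
  have hcomp : ιA ≫ l = Θ ≫ ιP := by
    apply pullback.hom_ext
    · rw [Category.assoc, Category.assoc, hl₁, pullback.lift_fst, ← Category.assoc Θ, h1]
      exact h.lift_fst _ _ _
    · rw [Category.assoc, Category.assoc, hl₂, pullback.lift_snd, h2, ← Category.assoc]
      exact congrArg (· ≫ Spec.map γ) (h.lift_snd _ _ _)
  have hcomp' : ∀ y, l.base (ιA.base y) = ιP.base (Θ.base y) := fun y =>
    (Scheme.Hom.comp_apply _ _ _).symm.trans ((congr(($hcomp).base y)).trans (Scheme.Hom.comp_apply _ _ _))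
  have hD : ∀ y, Θ.base y ∈ (PrimeSpectrum.basicOpen z' : Set (PrimeSpectrum _)) ↔
      y ∈ (PrimeSpectrum.basicOpen z : Set (PrimeSpectrum _)) := fun y => by
    show ¬ (z' ∈ Ideal.comap θ.toRingHom (y : PrimeSpectrum _).asIdeal) ↔ ¬ (z ∈ (y : PrimeSpectrum _).asIdeal)
    rw [← hz']; rfl
  refine ⟨ιP.base '' (PrimeSpectrum.basicOpen z' : Set (PrimeSpectrum _)), ?_, ?_, ?_, ?_⟩
  · exact ιP.isOpenEmbedding.isOpenMap _ (PrimeSpectrum.basicOpen z').isOpen
  · exact (PrimeSpectrum.isCompact_basicOpen z').image ιP.continuous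
  · exact ⟨Θ.base x₀, (hD x₀).mpr hz, by rw [← hx₀]; exact (hcomp' x₀).symm⟩
  · rintro q' ⟨y, hy, hyq⟩
    have hq' : j.base ((Spec.map inlP).base y) = pr.base q' := by
      rw [← Scheme.Hom.comp_apply, show Spec.map inlP ≫ j = ιP ≫ pullback.fst _ _ from
        (pullback.lift_fst _ _ _).symm, Scheme.Hom.comp_apply, hyq, ← Scheme.Hom.comp_apply, hl₁]
    obtain ⟨x', -, rfl⟩ := Scheme.exists_preimage_of_isPullback hιA _ q' hq'
    refine hzO ((hD x').mp ?_)
    rwa [← show y = Θ.base x' from ιP.isOpenEmbedding.injective (hyq.trans (hcomp' x'))]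

end Descend

section OpenStage

variable {N : Nbhd ξ} {W L : Scheme.{u}} {w : W ⟶ Spec N.B} {pr : L ⟶ W}
  {st : L ⟶ Spec (EtBase.etaleLocalRing ξ)} (h : IsPullback pr st w (Spec.map N.germ))

/-- The map from the limit to a stage. -/
noncomputable def stageLift {P : Nbhd ξ} (r : Refine N P) : L ⟶ pullback w (Spec.map r.ψ) :=
  pullback.lift pr (st ≫ Spec.map P.germ) (by rw [Category.assoc, r.spec_germ]; exact h.w)

/-- Open sets of the limit come from finite stages. -/
theorem exists_open_stage {O : Set L} (hO : IsOpen O) {q : L} (hq : q ∈ O) :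
    ∃ (P : Nbhd ξ) (r : Refine N P) (O' : Set ↥(pullback w (Spec.map r.ψ))),
      IsOpen O' ∧ IsCompact O' ∧ (stageLift h r).base q ∈ O' ∧ (stageLift h r).base ⁻¹' O' ⊆ O := by
  obtain ⟨n, a, H⟩ := exists_finset_open h hO hq
  obtain ⟨P, r, x, hx⟩ := exists_stage_finset N Finset.univ a
  exact ⟨P, r, H P.B r.ψ P.germ r.germ x (fun i => hx i (Finset.mem_univ i)) _ (pullback.lift_fst _ _ _)
    (pullback.lift_snd _ _ _)⟩

end OpenStage

end Groth.Agent.EtPBC63.Proper0
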