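import Groth.Agent.EtPBC63.Proper0.UnitComp
import Groth.Agent.EtPBC63.Proper0.Nbhd
import Groth.Agent.EtPBC63.Gabber.Pair
import Groth.Agent.S0095

/-!
# Global sections on the base change to the étale local ring and on the geometric fibre
-/

universe u

open CategoryTheory CategoryTheory.Limits AlgebraicGeometry Opposite

namespace Groth.Agent.EtPBC63.Proper0

open EtLC12.StrictStalk

set_option backward.isDefEq.respectTransparency.types false

/-- For `Z` proper over a strictly henselian local ring, global sections are those of the geometric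
closed fibre. -/
theorem unitBij_geomFibre {A : Type u} [CommRing A] [HenselianLocalRing A]
    [IsSepClosed (IsLocalRing.ResidueField A)] {K : Type u} [Field K]
    [Algebra (IsLocalRing.ResidueField A) K]
    {Z : Scheme.{u}} (q : Z ⟶ Spec (CommRingCat.of A)) [IsProper q] {Z' : Scheme.{u}} {pr : Z' ⟶ Z}
    {st : Z' ⟶ Spec (CommRingCat.of K)}
    (h : IsPullback pr st q (Spec.map (CommRingCat.ofHom
      ((algebraMap (IsLocalRing.ResidueField A) K).comp (IsLocalRing.residue A))))) :
    UnitBij pr := by
  let ρ := Spec.map (CommRingCat.ofHom (IsLocalRing.residue A))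
  let g := Spec.map (CommRingCat.ofHom (algebraMap (IsLocalRing.ResidueField A) K))
  let i := pullback.fst q ρ
  let j := pullback.fst (pullback.snd q ρ) g
  have : IsClosedImmersion ρ := IsClosedImmersion.spec_of_surjective _ IsLocalRing.residue_surjective
  have : IsClosedImmersion i := MorphismProperty.pullback_fst _ _ ‹IsClosedImmersion ρ›
  have hi : UnitBij i := fun F => Gabber.bijective_unit_of_proper (IsLocalRing.maximalIdeal A) q i (by
    rw [Scheme.Pullback.range_fst]
    congr 1
    show Set.range (PrimeSpectrum.comap (IsLocalRing.residue A)) = _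
    rw [range_comap_of_surjective _ _ IsLocalRing.residue_surjective, IsLocalRing.ker_residue]) F
  have hj : UnitBij j := fun F => S0095.result (pullback.snd q ρ) F
  have hp : IsPullback (j ≫ i) (pullback.snd (pullback.snd q ρ) g) q (g ≫ ρ) :=
    (IsPullback.of_hasPullback (pullback.snd q ρ) g).paste_horiz (IsPullback.of_hasPullback q ρ)
  have hgρ : g ≫ ρ = Spec.map (CommRingCat.ofHom
      ((algebraMap (IsLocalRing.ResidueField A) K).comp (IsLocalRing.residue A))) := by
    rw [← Spec.map_comp]; rfl
  rw [hgρ] at hp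
  have he : (h.isoIsPullback _ _ hp).hom ≫ (j ≫ i) = pr := h.isoIsPullback_hom_fst _ _ hp
  rw [← he]
  exact (unitBij_of_isIso _).comp (hj.comp hi)

variable {X Y : Scheme.{u}} (f : X ⟶ Y) {Ω : Type u} [Field Ω] [IsSepClosed Ω]
  (ξ : Spec (CommRingCat.of Ω) ⟶ Y)

/-- The map from the geometric fibre to the base change to the étale local ring. -/
noncomputable def prFib : pullback f ξ ⟶ pullback f (toScheme ξ) :=
  pullback.lift (pullback.fst f ξ) (pullback.snd f ξ ≫ Spec.map (ev ξ))
    (by rw [Category.assoc, specMap_ev_toScheme, pullback.condition])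

theorem prFib_fst : prFib f ξ ≫ pullback.fst f (toScheme ξ) = pullback.fst f ξ := pullback.lift_fst _ _ _

theorem prFib_snd : prFib f ξ ≫ pullback.snd f (toScheme ξ) = pullback.snd f ξ ≫ Spec.map (ev ξ) :=
  pullback.lift_snd _ _ _

theorem isPullback_prFib :
    IsPullback (prFib f ξ) (pullback.snd f ξ) (pullback.snd f (toScheme ξ)) (Spec.map (ev ξ)) := by
  refine IsPullback.of_right (h₁₂ := pullback.fst f (toScheme ξ)) (v₁₃ := f) (h₂₂ := toScheme ξ) ?_
    (prFib_snd f ξ) (IsPullback.of_hasPullback f (toScheme ξ))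
  rw [prFib_fst, specMap_ev_toScheme]
  exact IsPullback.of_hasPullback f ξ

theorem unitBij_prFib [IsProper f] : UnitBij (prFib f ξ) := by
  obtain ⟨hh, hs⟩ := isStrictlyHenselian (ξ := ξ)
  haveI := hh
  haveI := hs
  have : IsLocalHom (ev ξ).hom := ⟨fun r hr => (isUnit_iff r).2 hr.ne_zero⟩
  letI : Algebra (IsLocalRing.ResidueField (EtBase.etaleLocalRing ξ)) Ω :=
    (IsLocalRing.ResidueField.lift (ev ξ).hom).toAlgebra
  have : IsProper (pullback.snd f (toScheme ξ)) := MorphismProperty.pullback_snd _ _ ‹IsProper f›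
  have he : CommRingCat.ofHom ((algebraMap (IsLocalRing.ResidueField (EtBase.etaleLocalRing ξ)) Ω).comp
      (IsLocalRing.residue (EtBase.etaleLocalRing ξ))) = ev ξ :=
    CommRingCat.hom_ext (IsLocalRing.ResidueField.lift_comp_residue _)
  refine @unitBij_geomFibre _ _ hh hs Ω _ _ _ (pullback.snd f (toScheme ξ)) _ _ _ (pullback.snd f ξ) ?_
  rw [he]
  exact isPullback_prFib f ξ

end Groth.Agent.EtPBC63.Proper0
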