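import Groth.Agent.EtPBC63.Proper0.Local
import Groth.Agent.EtLim64.DegZero

/-!
# Sections over the base change of a proper scheme to the étale local ring come from stages
-/

universe u

open CategoryTheory CategoryTheory.Limits AlgebraicGeometry Opposite

namespace Groth.Agent.EtPBC63.Proper0

open EtFound Gabber FlatConn EtLC12.StrictStalk

set_option backward.isDefEq.respectTransparency.types false

variable {X Y : Scheme.{u}}

section Pair

variable {A B C : X.Etale} (a : A ⟶ C) (b : B ⟶ C)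

/-- Fibre product of étale objects, on the underlying schemes. -/
noncomputable def pair : X.Etale :=
  haveI := etale_left b
  haveI := A.prop
  haveI : Etale (pullback.fst a.left b.left ≫ A.hom) := inferInstance
  Scheme.Etale.mk (pullback.fst a.left b.left ≫ A.hom)

/-- First projection. -/
noncomputable def pairFst : pair a b ⟶ A :=
  MorphismProperty.Over.homMk (pullback.fst a.left b.left) rfl trivial

/-- Second projection. -/
noncomputable def pairSnd : pair a b ⟶ B :=
  MorphismProperty.Over.homMk (pullback.snd a.left b.left) (by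
    refine ((congrArg (pullback.snd a.left b.left ≫ ·) (MorphismProperty.Over.w b).symm).trans
      ((Category.assoc _ _ _).symm.trans ((congrArg (· ≫ C.hom) pullback.condition.symm).trans
        (Category.assoc _ _ _)))).trans ?_
    exact congrArg (pullback.fst a.left b.left ≫ ·) (MorphismProperty.Over.w a)) trivial

theorem pair_condition : pairFst a b ≫ a = pairSnd a b ≫ b :=
  MorphismProperty.Over.Hom.ext pullback.condition

/-- The universal map into the fibre product. -/
noncomputable def pairLift {T : X.Etale} (u : T ⟶ A) (v : T ⟶ B) (h : u ≫ a = v ≫ b) : T ⟶ pair a b :=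
  MorphismProperty.Over.homMk (pullback.lift u.left v.left congr(($h).left))
    ((Category.assoc _ _ _).symm.trans ((congrArg (· ≫ A.hom) (pullback.lift_fst _ _ _)).trans
      (MorphismProperty.Over.w u))) trivial

theorem pairLift_fst {T : X.Etale} (u : T ⟶ A) (v : T ⟶ B) (h : u ≫ a = v ≫ b) :
    pairLift a b u v h ≫ pairFst a b = u := MorphismProperty.Over.Hom.ext (pullback.lift_fst _ _ _)

theorem pairLift_snd {T : X.Etale} (u : T ⟶ A) (v : T ⟶ B) (h : u ≫ a = v ≫ b) :
    pairLift a b u v h ≫ pairSnd a b = v := MorphismProperty.Over.Hom.ext (pullback.lift_snd _ _ _)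

theorem exists_pair_point {x : A.left} {y : B.left} (h : a.left.base x = b.left.base y) :
    ∃ z : (pair a b).left, (pairFst a b).left.base z = x ∧ (pairSnd a b).left.base z = y :=
  Scheme.Pullback.exists_preimage_pullback x y h

end Pair

variable (f : X ⟶ Y) [IsProper f] {Ω : Type u} [Field Ω] [IsSepClosed Ω]
  {ξ : Spec (CommRingCat.of Ω) ⟶ Y} (F : EtCoh.Ab X)

omit [IsProper f] in
theorem rX_refl (N : Nbhd ξ) : rX f (Refine.refl N) = 𝟙 _ :=
  (congrArg (EtCoh.bc f).map
    (MorphismProperty.Over.Hom.ext (Spec.map_id _) : refineHom (Refine.refl N) = 𝟙 _)).trans ((EtCoh.bc f).map_id _)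

omit [IsProper f] in
theorem mem_trX_of_range (N : Nbhd ξ) {w : (XP f N).left}
    (h : (pullback.fst N.g f : (XP f N).left ⟶ Spec N.B).base w ∈ Set.range (Spec.map N.germ).base) :
    ∃ x, (trX f N).base x = w := by
  obtain ⟨y, hy⟩ := h
  obtain ⟨x, hx, -⟩ := Scheme.exists_preimage_of_isPullback (isPullback_trX f N) w y hy.symm
  exact ⟨x, hx⟩

theorem isClosedMap_stage (N : Nbhd ξ) : IsClosedMap (pullback.fst N.g f : (XP f N).left ⟶ Spec N.B).base := by
  have h : IsProper (pullback.fst N.g f) := MorphismProperty.pullback_fst _ _ ‹IsProper f›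
  exact (pullback.fst N.g f).isClosedMap

/-- Injectivity of the map to sections over the étale local ring. -/
theorem exists_refine_zero {N : Nbhd ξ} (s : F.obj.obj (op (XP f N)))
    (h : ((EtCoh.pull (pA f ξ)).obj F).obj.map (sA f N).op (pb (pA f ξ) F (XP f N) s) = 0) :
    ∃ (P : Nbhd ξ) (r : Refine N P), F.obj.map (rX f r).op s = 0 := by
  let π : (XP f N).left ⟶ Spec N.B := pullback.fst N.g f
  have hcl : IsClosed (π.base '' germSupp F (XP f N) s) :=
    isClosedMap_stage f N _ (isClosed_germSupp _ _ _)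
  have hc : cpt N ∉ π.base '' germSupp F (XP f N) s := by
    rintro ⟨w, hw, hwc⟩
    obtain ⟨x, rfl⟩ := mem_trX_of_range f N (w := w) (hwc ▸ cpt_mem_range N)
    have h1 : (sA f N).left.base x ∈ germSupp ((EtCoh.pull (pA f ξ)).obj F) _ (pb (pA f ξ) F (XP f N) s) := by
      refine (germSupp_pb (pA f ξ) F (XP f N) s _).mpr ?_
      refine Set.mem_of_eq_of_mem ?_ hw
      exact (Scheme.Hom.comp_apply _ _ x).symm.trans congr(($(sA_fst f N)).base x)
    have h2 := (germSupp_map (sA f N) _ x).mpr h1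
    rw [h] at h2
    exact germSupp_zero _ _ _ h2
  obtain ⟨P, r, hr⟩ := exists_refine_subset N hcl.isOpen_compl hc
  refine ⟨P, r, eq_zero_of_germSupp _ (Set.eq_empty_of_forall_notMem fun w hw => ?_)⟩
  refine hr ⟨(pullback.fst P.g f : (XP f P).left ⟶ Spec P.B).base w, rfl⟩ ?_
  refine ⟨(rX f r).left.base w, (germSupp_map (rX f r) _ w).mp hw, ?_⟩
  exact (Scheme.Hom.comp_apply _ _ w).symm.trans ((congr(($(rX_fst f r)).base w)).trans (Scheme.Hom.comp_apply _ _ w))

variable {f F} {τ : ((EtCoh.pull (pA f ξ)).obj F).obj.obj (op (EtCoh.top (pullback f (toScheme ξ))))}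

/-- The locus where two pieces disagree avoids generizations of the point. -/
theorem notMem_closure_disagree {N : Nbhd ξ} (Q R : Piece f F τ N) :
    cpt N ∉ closure (((pairFst Q.t R.t ≫ Q.t).left ≫ (pullback.fst N.g f : (XP f N).left ⟶ Spec N.B)).base ''
      germSupp F (pair Q.t R.t) (F.obj.map (pairFst Q.t R.t).op Q.σ - F.obj.map (pairSnd Q.t R.t).op R.σ)) := by
  intro hc
  haveI : IsProper (pullback.fst N.g f) := MorphismProperty.pullback_fst _ _ ‹IsProper f›
  haveI : QuasiSeparatedSpace (XP f N).left :=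
    (quasiSeparatedSpace_of_quasiSeparated (pullback.fst N.g f) : QuasiSeparatedSpace ↥(pullback N.g f))
  haveI := Q.compact
  haveI := R.compact
  haveI : QuasiCompact R.t.left := quasiCompact_of_compactSpace _
  haveI : CompactSpace (pair Q.t R.t).left := (inferInstance : CompactSpace ↥(pullback Q.t.left R.t.left))
  obtain ⟨η, ⟨e, he, hee⟩, hη⟩ := (cc_image ((pairFst Q.t R.t ≫ Q.t).left ≫
      (pullback.fst N.g f : (XP f N).left ⟶ Spec N.B)) (isClosed_germSupp _ _ _)).exists_specializes hc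
  obtain ⟨x, hx⟩ := mem_trX_of_range f N (w := (pairFst Q.t R.t ≫ Q.t).left.base e) (by
    have h := mem_range_germ N (η := η) hη
    rw [← hee] at h
    exact Set.mem_of_eq_of_mem (Scheme.Hom.comp_apply _ _ e).symm h)
  obtain ⟨o, ho, -⟩ := exists_obj_point f (pairFst Q.t R.t ≫ Q.t) hx.symm
  have h1 : RedFib.diff (pA f ξ) F (sA f N) τ (pairFst Q.t R.t ≫ Q.t) (F.obj.map (pairFst Q.t R.t).op Q.σ) = 0 := by
    rw [diff_trans f Q.t (Refine.refl N) (pairFst Q.t R.t) (by rw [rX_refl, Category.comp_id]), Q.agree, map_zero]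
  have h2 : RedFib.diff (pA f ξ) F (sA f N) τ (pairFst Q.t R.t ≫ Q.t) (F.obj.map (pairSnd Q.t R.t).op R.σ) = 0 := by
    rw [diff_trans f R.t (Refine.refl N) (pairSnd Q.t R.t) (by rw [rX_refl, Category.comp_id, pair_condition]),
      R.agree, map_zero]
  have h3 : ((EtCoh.pull (pA f ξ)).obj F).obj.map (RedFib.toU (pA f ξ) (sA f N) (pairFst Q.t R.t ≫ Q.t)).op
      (pb (pA f ξ) F (pair Q.t R.t)
        (F.obj.map (pairFst Q.t R.t).op Q.σ - F.obj.map (pairSnd Q.t R.t).op R.σ)) = 0 := by
    rw [pb_sub, map_sub]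
    refine sub_eq_zero.mpr ?_
    exact (sub_eq_zero.mp h1).symm.trans (sub_eq_zero.mp h2)
  have h4 := (germSupp_pb (pA f ξ) F (pair Q.t R.t) _
    ((RedFib.toU (pA f ξ) (sA f N) (pairFst Q.t R.t ≫ Q.t)).left.base o)).mpr
      (Set.mem_of_eq_of_mem ((Scheme.Hom.comp_apply _ _ o).symm.trans ho) he)
  have h5 := (germSupp_map (RedFib.toU (pA f ξ) (sA f N) (pairFst Q.t R.t ≫ Q.t)) _ o).mpr h4
  rw [h3] at h5
  exact germSupp_zero _ _ _ h5

variable (f F) in
/-- Surjectivity of the map to sections over the étale local ring. -/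
theorem exists_stage_section
    (τ : ((EtCoh.pull (pA f ξ)).obj F).obj.obj (op (EtCoh.top (pullback f (toScheme ξ))))) :
    ∃ (P : Nbhd ξ) (s : F.obj.obj (op (XP f P))),
      ((EtCoh.pull (pA f ξ)).obj F).obj.map (sA f P).op (pb (pA f ξ) F (XP f P) s) = τ := by
  classical
  haveI : IsProper (pullback.snd f (toScheme ξ)) := MorphismProperty.pullback_snd _ _ ‹IsProper f›
  haveI : CompactSpace ↥(pullback f (toScheme ξ)) :=
    QuasiCompact.compactSpace_of_compactSpace (pullback.snd f (toScheme ξ))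
  choose Px rx Qx hQx using exists_piece f F τ (base ξ)
  let O : ↥(pullback f (toScheme ξ)) → Set ↥(pullback f (toScheme ξ)) := fun x =>
    (trX f (Px x)).base ⁻¹' Set.range (Qx x).t.left.base
  have hO : ∀ x, IsOpen (O x) := fun x => by
    haveI := etale_left (Qx x).t
    exact ((Qx x).t.left.isOpenMap.isOpen_range).preimage (trX f (Px x)).continuous
  obtain ⟨T, hT⟩ := isCompact_univ.elim_finite_subcover O hO fun x _ => Set.mem_iUnion.mpr ⟨x, hQx x⟩
  obtain ⟨N, -, hN⟩ := exists_refine_finset T (base ξ) Px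
  choose Qs hQs using fun i : T => exists_upTo f F τ (hN i.1 i.2).some (Qx i.1)
  have hcov : ∀ x, ∃ i : T, (trX f N).base x ∈ Set.range (Qs i).t.left.base := fun x => by
    obtain ⟨i, hi, hxi⟩ := Set.mem_iUnion₂.mp (hT (Set.mem_univ x))
    exact ⟨⟨i, hi⟩, hQs ⟨i, hi⟩ x hxi⟩
  let π : (XP f N).left ⟶ Spec N.B := pullback.fst N.g f
  let C₀ : Set (XP f N).left := (⋃ i : T, Set.range (Qs i).t.left.base)ᶜ
  have hC₀ : IsClosed C₀ := isClosed_compl_iff.mpr <| isOpen_iUnion fun i => by
    haveI := etale_left (Qs i).t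
    exact (Qs i).t.left.isOpenMap.isOpen_range
  let D : T → T → Set ↥(Spec N.B) := fun i j =>
    closure (((pairFst (Qs i).t (Qs j).t ≫ (Qs i).t).left ≫ π).base '' germSupp F (pair (Qs i).t (Qs j).t)
      (F.obj.map (pairFst (Qs i).t (Qs j).t).op (Qs i).σ - F.obj.map (pairSnd (Qs i).t (Qs j).t).op (Qs j).σ))
  let G : Set ↥(Spec N.B) := (π.base '' C₀ ∪ ⋃ i, ⋃ j, D i j)ᶜ
  have hG : IsOpen G := ((isClosedMap_stage f N _ hC₀).union
    (isClosed_iUnion_of_finite fun i => isClosed_iUnion_of_finite fun j => isClosed_closure)).isOpen_compl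
  have hcG : cpt N ∈ G := by
    rintro (⟨w, hw, hwc⟩ | hD)
    · obtain ⟨x, rfl⟩ := mem_trX_of_range f N (w := w) (hwc ▸ cpt_mem_range N)
      obtain ⟨i, hi⟩ := hcov x
      exact hw (Set.mem_iUnion.mpr ⟨i, hi⟩)
    · obtain ⟨i, hi⟩ := Set.mem_iUnion.mp hD
      obtain ⟨j, hj⟩ := Set.mem_iUnion.mp hi
      exact notMem_closure_disagree (Qs i) (Qs j) hj
  obtain ⟨P, r, hr⟩ := exists_refine_subset N hG hcG
  have hπ : ∀ w : (XP f P).left, π.base ((rX f r).left.base w) ∈ G := fun w => by
    refine Set.mem_of_eq_of_mem ((Scheme.Hom.comp_apply _ _ w).symm.trans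
      ((congr(($(rX_fst f r)).base w)).trans (Scheme.Hom.comp_apply _ _ w))) (hr ⟨_, rfl⟩)
  let V : T → X.Etale := fun i => pair (Qs i).t (rX f r)
  let g : ∀ i, V i ⟶ XP f P := fun i => pairSnd (Qs i).t (rX f r)
  let σ : ∀ i, F.obj.obj (op (V i)) := fun i => F.obj.map (pairFst (Qs i).t (rX f r)).op (Qs i).σ
  obtain ⟨s, hs⟩ := EtLim64.sect_glue F (U := XP f P) V g (fun w => by
    have : (rX f r).left.base w ∈ ⋃ i : T, Set.range (Qs i).t.left.base := by
      by_contra hne
      exact hπ w (Or.inl ⟨_, hne, rfl⟩)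
    obtain ⟨i, v, hv⟩ := Set.mem_iUnion.mp this
    obtain ⟨z, -, hz⟩ := exists_pair_point (Qs i).t (rX f r) hv
    exact ⟨i, z, hz⟩) σ (fun i j => by
    let u := pullback.fst (g i) (g j) ≫ pairFst (Qs i).t (rX f r)
    let v := pullback.snd (g i) (g j) ≫ pairFst (Qs j).t (rX f r)
    have huv : u ≫ (Qs i).t = v ≫ (Qs j).t := by
      rw [Category.assoc, Category.assoc, pair_condition, pair_condition, ← Category.assoc, ← Category.assoc,
        pullback.condition]
    show F.obj.map (pullback.fst (g i) (g j)).op (σ i) = F.obj.map (pullback.snd (g i) (g j)).op (σ j)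
    rw [← Functor.map_comp_apply, ← Functor.map_comp_apply, ← op_comp, ← op_comp]
    show F.obj.map u.op (Qs i).σ = F.obj.map v.op (Qs j).σ
    refine sub_eq_zero.mp (eq_zero_of_germSupp _ (Set.eq_empty_of_forall_notMem fun w hw => ?_))
    let m := pairLift (Qs i).t (Qs j).t u v huv
    have e1 : F.obj.map u.op (Qs i).σ - F.obj.map v.op (Qs j).σ = F.obj.map m.op
        (F.obj.map (pairFst (Qs i).t (Qs j).t).op (Qs i).σ - F.obj.map (pairSnd (Qs i).t (Qs j).t).op (Qs j).σ) := by
      rw [map_sub, ← Functor.map_comp_apply, ← Functor.map_comp_apply, ← op_comp, ← op_comp, pairLift_fst,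
        pairLift_snd]
    rw [e1] at hw
    have e2 : (m ≫ pairFst (Qs i).t (Qs j).t ≫ (Qs i).t) = pullback.fst (g i) (g j) ≫ g i ≫ rX f r := by
      rw [← Category.assoc, pairLift_fst, Category.assoc, pair_condition]
    refine hπ ((pullback.fst (g i) (g j) ≫ g i).left.base w) (Or.inr (Set.mem_iUnion.mpr ⟨i, Set.mem_iUnion.mpr
      ⟨j, subset_closure ⟨m.left.base w, (germSupp_map m _ w).mp hw, ?_⟩⟩⟩))
    refine (Scheme.Hom.comp_apply _ _ (m.left.base w)).trans (congrArg π.base ?_)
    exact (Scheme.Hom.comp_apply _ _ w).symm.trans ((congr(($e2).left.base w)).trans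
      ((congr(($((Category.assoc (pullback.fst (g i) (g j)) (g i) (rX f r)).symm)).left.base w)).trans
        (Scheme.Hom.comp_apply _ _ w))))
  refine ⟨P, s, (sub_eq_zero.mp (eq_zero_of_germSupp _ (Set.eq_empty_of_forall_notMem fun x hx => ?_))).symm⟩
  obtain ⟨i, v, hv⟩ := hcov x
  obtain ⟨z, -, hz⟩ := exists_pair_point (Qs i).t (rX f r) (x := v) (y := (trX f P).base x)
    (hv.trans ((Scheme.Hom.comp_apply _ _ x).symm.trans congr(($(trX_rX f r)).base x)).symm)
  obtain ⟨o, -, hox⟩ := exists_obj_point f (g i) hz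
  have h1 : RedFib.diff (pA f ξ) F (sA f P) τ (g i) (F.obj.map (g i).op s) = 0 := by
    refine (congrArg (RedFib.diff (pA f ξ) F (sA f P) τ (g i)) (hs i)).trans ?_
    rw [diff_trans f (Qs i).t r (pairFst (Qs i).t (rX f r)) (pair_condition _ _).symm, (Qs i).agree, map_zero]
  rw [RedFib.diff_map] at h1
  have h2 := (germSupp_map (RedFib.toW (pA f ξ) (sA f P) (g i)) _ o).mpr (Set.mem_of_eq_of_mem hox hx)
  rw [h1] at h2
  exact germSupp_zero _ _ _ h2

end Groth.Agent.EtPBC63.Proper0
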