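import Groth.Agent.EtPBC63.Proper0.Nbhd
import Groth.Agent.EtPBC63.RedFib.Agree

/-!
# Sections over the base change to the étale local ring, locally from finite stages
-/

universe u

open CategoryTheory CategoryTheory.Limits AlgebraicGeometry Opposite

namespace Groth.Agent.EtPBC63.Proper0

open EtFound Gabber FlatConn EtLC12.StrictStalk

set_option backward.isDefEq.respectTransparency.types false

variable {X Y : Scheme.{u}} (f : X ⟶ Y) {Ω : Type u} [Field Ω] [IsSepClosed Ω]
  {ξ : Spec (CommRingCat.of Ω) ⟶ Y}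

/-- The base change of `X` to a stage. -/
noncomputable def XP (N : Nbhd ξ) : X.Etale := (EtCoh.bc f).obj N.obj

variable (ξ) in
/-- The projection of the base change to the étale local ring. -/
noncomputable abbrev pA : pullback f (toScheme ξ) ⟶ X := pullback.fst f (toScheme ξ)

/-- The map to a stage. -/
noncomputable def trX (N : Nbhd ξ) : pullback f (toScheme ξ) ⟶ (XP f N).left :=
  (pullback.lift (pullback.snd f (toScheme ξ) ≫ Spec.map N.germ) (pullback.fst f (toScheme ξ))
    (by rw [Category.assoc, germ_g, pullback.condition]) : pullback f (toScheme ξ) ⟶ pullback N.g f)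

theorem trX_hom (N : Nbhd ξ) : trX f N ≫ (XP f N).hom = pA f ξ := pullback.lift_snd _ _ _

theorem trX_fst (N : Nbhd ξ) :
    trX f N ≫ (pullback.fst N.g f : (XP f N).left ⟶ Spec N.B) = pullback.snd f (toScheme ξ) ≫ Spec.map N.germ :=
  pullback.lift_fst _ _ _

theorem lift_cond {A B C D E G : Scheme.{u}} {fs : A ⟶ B} {sn : A ⟶ C} {tl : B ⟶ D} {a : D ⟶ E}
    {hm : D ⟶ G} {ψ : C ⟶ E} {g : E ⟶ Y} {Pg : C ⟶ Y} {k : G ⟶ Y} (e0 : fs ≫ tl ≫ a = sn ≫ ψ)
    (e1 : a ≫ g = hm ≫ k) (e3 : ψ ≫ g = Pg) {uh : B ⟶ G} (e2 : tl ≫ hm = uh) :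
    sn ≫ Pg = (fs ≫ uh) ≫ k := by
  subst e2 e3
  rw [← Category.assoc, ← e0]
  simp only [Category.assoc, e1]

theorem isPullback_trX (N : Nbhd ξ) :
    IsPullback (trX f N) (pullback.snd f (toScheme ξ)) (pullback.fst N.g f : (XP f N).left ⟶ Spec N.B)
      (Spec.map N.germ) := by
  refine IsPullback.of_right (h₁₂ := (XP f N).hom) (v₁₃ := f) (h₂₂ := N.g) ?_ (trX_fst f N)
    (IsPullback.of_hasPullback N.g f).flip
  rw [trX_hom, germ_g]
  exact IsPullback.of_hasPullback f (toScheme ξ)

/-- The map of neighbourhood objects of a refinement. -/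
noncomputable def refineHom {N P : Nbhd ξ} (r : Refine N P) : P.obj ⟶ N.obj :=
  MorphismProperty.Over.homMk (Spec.map r.ψ) r.w_g trivial

/-- The transition map of a refinement. -/
noncomputable def rX {N P : Nbhd ξ} (r : Refine N P) : XP f P ⟶ XP f N := (EtCoh.bc f).map (refineHom r)

theorem rX_fst {N P : Nbhd ξ} (r : Refine N P) :
    (rX f r).left ≫ (pullback.fst N.g f : (XP f N).left ⟶ Spec N.B) =
      (pullback.fst P.g f : (XP f P).left ⟶ Spec P.B) ≫ Spec.map r.ψ :=
  (EtCoh.isPullback_bc_map f (refineHom r)).w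

theorem trX_rX {N P : Nbhd ξ} (r : Refine N P) : trX f P ≫ (rX f r).left = trX f N := by
  refine pullback.hom_ext ?_ ?_
  · refine ((Category.assoc _ _ _).trans (congrArg (trX f P ≫ ·) (rX_fst f r))).trans ?_
    refine (Category.assoc _ _ _).symm.trans ((congrArg (· ≫ Spec.map r.ψ) (trX_fst f P)).trans ?_)
    refine (Category.assoc _ _ _).trans ?_
    rw [r.spec_germ]
    exact (trX_fst f N).symm
  · refine ((Category.assoc _ _ _).trans (congrArg (trX f P ≫ ·) (MorphismProperty.Over.w (rX f r)))).trans ?_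
    exact (trX_hom f P).trans (trX_hom f N).symm

/-- The tautological point of the base change of a stage. -/
noncomputable def sA (N : Nbhd ξ) : EtCoh.top (pullback f (toScheme ξ)) ⟶ (EtCoh.bc (pA f ξ)).obj (XP f N) :=
  MorphismProperty.Over.homMk
    (pullback.lift (trX f N) (𝟙 _) ((trX_hom f N).trans (Category.id_comp _).symm))
    (pullback.lift_snd _ _ _) trivial

theorem sA_fst (N : Nbhd ξ) :
    (sA f N).left ≫ (pullback.fst (XP f N).hom (pA f ξ) : ((EtCoh.bc (pA f ξ)).obj (XP f N)).left ⟶ (XP f N).left) =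
      trX f N := pullback.lift_fst _ _ _

theorem sA_rX {N P : Nbhd ξ} (r : Refine N P) : sA f P ≫ (EtCoh.bc (pA f ξ)).map (rX f r) = sA f N := by
  apply MorphismProperty.Over.Hom.ext
  refine pullback.hom_ext ?_ ?_
  · refine Eq.trans ?_ (sA_fst f N).symm
    refine (Category.assoc _ _ _).trans ((congrArg ((sA f P).left ≫ ·)
      (pullback.lift_fst _ _ _)).trans ?_)
    refine (Category.assoc _ _ _).symm.trans ?_
    rw [sA_fst]; exact trX_rX f r
  · refine Eq.trans ?_ (pullback.lift_snd _ _ _).symm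
    exact MorphismProperty.Over.w (sA f P ≫ (EtCoh.bc (pA f ξ)).map (rX f r))

variable {N : Nbhd ξ} {U : X.Etale} (t : U ⟶ XP f N)

/-- The point of a local object in a stage. -/
noncomputable def objPr : (RedFib.obj (pA f ξ) (sA f N) t).left ⟶ U.left :=
  (RedFib.toU (pA f ξ) (sA f N) t).left ≫ pullback.fst U.hom (pA f ξ)

theorem isPullback_objPr_trX :
    IsPullback (objPr f t) (RedFib.toW (pA f ξ) (sA f N) t).left t.left (trX f N) := by
  have h1 := (IsPullback.of_hasPullback (sA f N).left ((EtCoh.bc (pA f ξ)).map t).left).flip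
  have h2 := (EtCoh.isPullback_bc_map (pA f ξ) t).flip
  have h3 := h1.paste_horiz h2
  rw [sA_fst] at h3
  exact h3

theorem isPullback_objPr :
    IsPullback (objPr f t) ((RedFib.toW (pA f ξ) (sA f N) t).left ≫ pullback.snd f (toScheme ξ))
      (t.left ≫ (pullback.fst N.g f : (XP f N).left ⟶ Spec N.B)) (Spec.map N.germ) :=
  (isPullback_objPr_trX f t).paste_vert (isPullback_trX f N)

theorem exists_obj_point {x : ↥(pullback f (toScheme ξ))} {v : U.left} (h : t.left.base v = (trX f N).base x) :
    ∃ o, (objPr f t).base o = v ∧ (RedFib.toW (pA f ξ) (sA f N) t).left.base o = x :=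
  Scheme.exists_preimage_of_isPullback (isPullback_objPr_trX f t) v x h

/-- An object over a stage pulled to a refinement. -/
noncomputable def upTo {P : Nbhd ξ} (r : Refine N P) : X.Etale :=
  haveI := r.etale
  haveI := U.prop
  haveI : Etale (pullback.fst (t.left ≫ (pullback.fst N.g f : (XP f N).left ⟶ Spec N.B)) (Spec.map r.ψ) ≫ U.hom) :=
    inferInstance
  Scheme.Etale.mk (pullback.fst (t.left ≫ (pullback.fst N.g f : (XP f N).left ⟶ Spec N.B)) (Spec.map r.ψ) ≫ U.hom)

/-- The projection of the pulled object. -/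
noncomputable def upToHom {P : Nbhd ξ} (r : Refine N P) : upTo f t r ⟶ U :=
  MorphismProperty.Over.homMk (pullback.fst _ _) rfl trivial

/-- The structure map of the pulled object. -/
noncomputable def upToMap {P : Nbhd ξ} (r : Refine N P) : upTo f t r ⟶ XP f P :=
  MorphismProperty.Over.homMk
    (pullback.lift (pullback.snd _ _) (pullback.fst _ _ ≫ U.hom)
      (lift_cond (tl := t.left) (hm := (XP f N).hom) pullback.condition
        (pullback.condition : (pullback.fst N.g f : (XP f N).left ⟶ Spec N.B) ≫ N.g = (XP f N).hom ≫ f)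
        r.w_g (MorphismProperty.Over.w t)) :
      (upTo f t r).left ⟶ pullback P.g f)
    (pullback.lift_snd _ _ _) trivial

theorem upToMap_rX {P : Nbhd ξ} (r : Refine N P) : upToMap f t r ≫ rX f r = upToHom f t r ≫ t := by
  apply MorphismProperty.Over.Hom.ext
  refine pullback.hom_ext ?_ ?_
  · refine ((Category.assoc _ _ _).trans (congrArg ((upToMap f t r).left ≫ ·) (rX_fst f r))).trans ?_
    refine (Category.assoc _ _ _).symm.trans ((congrArg (· ≫ Spec.map r.ψ) (pullback.lift_fst _ _ _)).trans ?_)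
    exact pullback.condition.symm.trans (Category.assoc _ _ _).symm
  · exact (MorphismProperty.Over.w (upToMap f t r ≫ rX f r)).trans
      (MorphismProperty.Over.w (upToHom f t r ≫ t)).symm

variable {P : Nbhd ξ} (r : Refine N P) {U' : X.Etale} {t' : U' ⟶ XP f P} (g : U' ⟶ U) (hg : t' ≫ rX f r = g ≫ t)

include hg in
theorem objTrans_cond :
    (RedFib.toW (pA f ξ) (sA f P) t') ≫ sA f N =
      (RedFib.toU (pA f ξ) (sA f P) t' ≫ (EtCoh.bc (pA f ξ)).map g) ≫ (EtCoh.bc (pA f ξ)).map t := by
  rw [Category.assoc, ← Functor.map_comp, ← hg, Functor.map_comp, ← Category.assoc, RedFib.toU_map,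
    Category.assoc, sA_rX]

/-- Transition of local objects. -/
noncomputable def objTrans : RedFib.obj (pA f ξ) (sA f P) t' ⟶ RedFib.obj (pA f ξ) (sA f N) t :=
  MorphismProperty.Over.homMk
    (pullback.lift (RedFib.toW (pA f ξ) (sA f P) t').left
      (RedFib.toU (pA f ξ) (sA f P) t' ≫ (EtCoh.bc (pA f ξ)).map g).left
      congr(($(objTrans_cond f t r g hg)).left))
    ((Category.assoc _ _ _).symm.trans ((congrArg (· ≫ (EtCoh.top (pullback f (toScheme ξ))).hom)
      (pullback.lift_fst _ _ _)).trans (MorphismProperty.Over.w (RedFib.toW (pA f ξ) (sA f P) t')))) trivial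

theorem objTrans_toW :
    objTrans f t r g hg ≫ RedFib.toW (pA f ξ) (sA f N) t = RedFib.toW (pA f ξ) (sA f P) t' :=
  MorphismProperty.Over.Hom.ext (pullback.lift_fst _ _ _)

theorem objTrans_toU :
    objTrans f t r g hg ≫ RedFib.toU (pA f ξ) (sA f N) t =
      RedFib.toU (pA f ξ) (sA f P) t' ≫ (EtCoh.bc (pA f ξ)).map g :=
  MorphismProperty.Over.Hom.ext (pullback.lift_snd _ _ _)

variable (F : EtCoh.Ab X)
  (τ : ((EtCoh.pull (pA f ξ)).obj F).obj.obj (op (EtCoh.top (pullback f (toScheme ξ)))))

theorem diff_trans (σ : F.obj.obj (op U)) :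
    RedFib.diff (pA f ξ) F (sA f P) τ t' (F.obj.map g.op σ) =
      ((EtCoh.pull (pA f ξ)).obj F).obj.map (objTrans f t r g hg).op (RedFib.diff (pA f ξ) F (sA f N) τ t σ) := by
  unfold RedFib.diff
  rw [map_sub, pb_map, ← Functor.map_comp_apply, ← Functor.map_comp_apply, ← Functor.map_comp_apply,
    ← op_comp, ← op_comp, ← op_comp, objTrans_toW, objTrans_toU]

omit hg in
theorem objTrans_stageLift :
    (objTrans f t r (upToHom f t r) (upToMap_rX f t r)).left ≫ stageLift (isPullback_objPr f t) r =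
      objPr f (upToMap f t r) := by
  let o := (objTrans f t r (upToHom f t r) (upToMap_rX f t r)).left
  have hW : o ≫ (RedFib.toW (pA f ξ) (sA f N) t).left = (RedFib.toW (pA f ξ) (sA f P) (upToMap f t r)).left :=
    congr(($(objTrans_toW f t r (upToHom f t r) (upToMap_rX f t r))).left)
  refine pullback.hom_ext ?_ ?_
  · refine ((Category.assoc _ _ _).trans (congrArg (o ≫ ·) (pullback.lift_fst _ _ _))).trans ?_
    refine (Category.assoc _ _ _).symm.trans ?_
    refine (congrArg (· ≫ pullback.fst U.hom (pA f ξ))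
      congr(($(objTrans_toU f t r (upToHom f t r) (upToMap_rX f t r))).left)).trans ?_
    refine (Category.assoc _ _ _).trans (Eq.trans ?_ (Category.assoc _ _ _).symm)
    exact congrArg (_ ≫ ·) (EtCoh.isPullback_bc_map (pA f ξ) (upToHom f t r)).w
  · refine ((Category.assoc _ _ _).trans (congrArg (o ≫ ·) (pullback.lift_snd _ _ _))).trans ?_
    have e1 : objPr f (upToMap f t r) ≫ pullback.snd (t.left ≫ (pullback.fst N.g f : (XP f N).left ⟶ Spec N.B))
        (Spec.map r.ψ) = (objPr f (upToMap f t r) ≫ (upToMap f t r).left) ≫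
          (pullback.fst P.g f : (XP f P).left ⟶ Spec P.B) :=
      ((Category.assoc _ _ _).trans (congrArg (objPr f (upToMap f t r) ≫ ·) (pullback.lift_fst _ _ _))).symm
    refine Eq.trans ?_ e1.symm
    rw [(isPullback_objPr_trX f (upToMap f t r)).w]
    refine (Category.assoc _ _ _).symm.trans ((congrArg (· ≫ Spec.map P.germ) ((Category.assoc _ _ _).symm.trans
      (congrArg (· ≫ pullback.snd f (toScheme ξ)) hW))).trans ?_)
    exact (Category.assoc _ _ _).trans (((congrArg (_ ≫ ·) (trX_fst f P)).symm).trans (Category.assoc _ _ _).symm)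

omit hg in
theorem objTrans_stageLift_apply (o : (RedFib.obj (pA f ξ) (sA f P) (upToMap f t r)).left) :
    (stageLift (isPullback_objPr f t) r).base
        ((objTrans f t r (upToHom f t r) (upToMap_rX f t r)).left.base o) =
      (objPr f (upToMap f t r)).base o :=
  (Scheme.Hom.comp_apply _ _ o).symm.trans congr(($(objTrans_stageLift f t r)).base o)

omit hg in
theorem stageLift_upToMap :
    stageLift (isPullback_objPr f t) r ≫ (upToMap f t r).left =
      (RedFib.toW (pA f ξ) (sA f N) t).left ≫ trX f P := by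
  let S := stageLift (isPullback_objPr f t) r
  have hsnd : S ≫ pullback.snd _ _ =
      ((RedFib.toW (pA f ξ) (sA f N) t).left ≫ pullback.snd f (toScheme ξ)) ≫ Spec.map P.germ :=
    pullback.lift_snd _ _ _
  have hfst : S ≫ (upToHom f t r).left = objPr f t := pullback.lift_fst _ _ _
  refine pullback.hom_ext ?_ ?_
  · refine ((Category.assoc _ _ _).trans (congrArg (S ≫ ·) (pullback.lift_fst _ _ _))).trans ?_
    refine hsnd.trans ?_
    refine (Category.assoc _ _ _).trans (Eq.trans ?_ (Category.assoc _ _ _).symm)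
    exact congrArg (_ ≫ ·) (trX_fst f P).symm
  · refine ((Category.assoc _ _ _).trans (congrArg (S ≫ ·) (pullback.lift_snd _ _ _))).trans ?_
    refine (Category.assoc _ _ _).symm.trans ((congrArg (· ≫ U.hom) hfst).trans ?_)
    refine ((congrArg (objPr f t ≫ ·) (MorphismProperty.Over.w t).symm).trans (Category.assoc _ _ _).symm).trans ?_
    refine (congrArg (· ≫ (XP f N).hom) (isPullback_objPr_trX f t).w).trans ?_
    refine (Category.assoc _ _ _).trans (Eq.trans ?_ (Category.assoc _ _ _).symm)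
    exact congrArg (_ ≫ ·) ((trX_hom f N).trans (trX_hom f P).symm)

/-- A piece: an object over a stage with a section agreeing with `τ` on the limit. -/
structure Piece (N : Nbhd ξ) where
  U : X.Etale
  t : U ⟶ XP f N
  compact : CompactSpace U.left
  σ : F.obj.obj (op U)
  agree : RedFib.diff (pA f ξ) F (sA f N) τ t σ = 0

omit hg in
/-- Pieces move to refinements. -/
theorem exists_upTo {N P : Nbhd ξ} (r : Refine N P) (Q : Piece f F τ N) :
    ∃ Q' : Piece f F τ P, ∀ x, (trX f N).base x ∈ Set.range Q.t.left.base →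
      (trX f P).base x ∈ Set.range Q'.t.left.base := by
  refine ⟨⟨upTo f Q.t r, upToMap f Q.t r, ?_, F.obj.map (upToHom f Q.t r).op Q.σ, ?_⟩, ?_⟩
  · haveI := Q.compact
    haveI : QuasiCompact (Spec.map r.ψ) := inferInstance
    exact (inferInstance : CompactSpace
      ↥(pullback (Q.t.left ≫ (pullback.fst N.g f : (XP f N).left ⟶ Spec N.B)) (Spec.map r.ψ)))
  · rw [diff_trans f Q.t r _ (upToMap_rX f Q.t r), Q.agree, map_zero]
  · rintro x ⟨v, hv⟩
    obtain ⟨o, -, hox⟩ := exists_obj_point f Q.t hv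
    refine ⟨(stageLift (isPullback_objPr f Q.t) r).base o, ?_⟩
    refine (Scheme.Hom.comp_apply _ _ o).symm.trans ((congr(($(stageLift_upToMap f Q.t r)).base o)).trans ?_)
    exact (Scheme.Hom.comp_apply _ _ o).trans (congrArg (trX f P).base hox)

omit hg in
/-- Every point of the limit lies in a piece. -/
theorem exists_piece (N : Nbhd ξ) (x : ↥(pullback f (toScheme ξ))) :
    ∃ (P : Nbhd ξ) (_ : Refine N P) (Q : Piece f F τ P), (trX f P).base x ∈ Set.range Q.t.left.base := by
  obtain ⟨K, _, _, ζ, z, hz⟩ := exists_algClosed_point (EtCoh.top (pullback f (toScheme ξ))) x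
  subst hz
  obtain ⟨U, t, σ, u', hu, hp⟩ := RedFib.exists_agree (pA f ξ) F (sA f N) τ z
  let o := ptOf (RedFib.pt (pA f ξ) (sA f N) t z u' hu)
  have hox : (RedFib.toW (pA f ξ) (sA f N) t).left.base o = ptOf z :=
    (ptOf_map _ _).symm.trans (congrArg ptOf (RedFib.map_toW_pt (pA f ξ) (sA f N) t z u' hu))
  obtain ⟨P, r, O', hO', hO'c, hoO', hpre⟩ := exists_open_stage (isPullback_objPr f t)
    (isClosed_germSupp ((EtCoh.pull (pA f ξ)).obj F) _ (RedFib.diff (pA f ξ) F (sA f N) τ t σ)).isOpen_compl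
    (q := o) hp
  let V : X.Etale := restrictEtale (upTo f t r) ⟨O', hO'⟩
  let g : V ⟶ U := restrictEtaleHom (upTo f t r) ⟨O', hO'⟩ ≫ upToHom f t r
  let t' : V ⟶ XP f P := restrictEtaleHom (upTo f t r) ⟨O', hO'⟩ ≫ upToMap f t r
  have hg : t' ≫ rX f r = g ≫ t := by
    rw [Category.assoc, Category.assoc, upToMap_rX]
  have hV : CompactSpace V.left := isCompact_iff_compactSpace.mp hO'c
  refine ⟨P, r, ⟨V, t', hV, F.obj.map g.op σ, ?_⟩, ?_⟩
  · refine eq_zero_of_germSupp _ (Set.eq_empty_of_forall_notMem fun o' ho' => ?_)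
    let g₀ := restrictEtaleHom (upTo f t r) ⟨O', hO'⟩
    have hg₀ : t' ≫ rX f (Refine.refl P) = g₀ ≫ upToMap f t r := by
      rw [show rX f (Refine.refl P) = 𝟙 _ from (congrArg (EtCoh.bc f).map
        (MorphismProperty.Over.Hom.ext (Spec.map_id _) : refineHom (Refine.refl P) = 𝟙 _)).trans
          ((EtCoh.bc f).map_id _)]
      exact Category.comp_id _
    have h1 : RedFib.diff (pA f ξ) F (sA f P) τ t' (F.obj.map g.op σ) =
        ((EtCoh.pull (pA f ξ)).obj F).obj.map (objTrans f (upToMap f t r) (Refine.refl P) g₀ hg₀).op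
          (((EtCoh.pull (pA f ξ)).obj F).obj.map (objTrans f t r (upToHom f t r) (upToMap_rX f t r)).op
            (RedFib.diff (pA f ξ) F (sA f N) τ t σ)) := by
      rw [← diff_trans f t r, ← diff_trans f (upToMap f t r) (Refine.refl P) g₀ hg₀, ← Functor.map_comp_apply,
        ← op_comp]
    rw [h1] at ho'
    let o₁ := (objTrans f (upToMap f t r) (Refine.refl P) g₀ hg₀).left.base o'
    refine hpre (a := (objTrans f t r (upToHom f t r) (upToMap_rX f t r)).left.base o₁) ?_
      ((germSupp_map _ _ o₁).mp ((germSupp_map _ _ o').mp ho'))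
    show (stageLift (isPullback_objPr f t) r).base _ ∈ O'
    refine Set.mem_of_eq_of_mem (objTrans_stageLift_apply f t r o₁) ?_
    have e : (objPr f (upToMap f t r)).base o₁ = g₀.left.base ((objPr f t').base o') := by
      refine (congrArg (pullback.fst (upTo f t r).hom (pA f ξ)).base
        ((Scheme.Hom.comp_apply _ _ o').symm.trans (congr(($(objTrans_toU f (upToMap f t r) (Refine.refl P) g₀ hg₀)).left.base o')))).trans ?_
      exact (Scheme.Hom.comp_apply _ _ _).symm.trans
        ((Scheme.Hom.comp_apply _ _ _).trans (bc_fst (pA f ξ) g₀ ((RedFib.toU (pA f ξ) (sA f P) t').left.base o')))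
    rw [e]
    exact ((objPr f t').base o').2
  · refine ⟨⟨_, hoO'⟩, ?_⟩
    show (upToMap f t r).left.base ((stageLift (isPullback_objPr f t) r).base o) = _
    refine (Scheme.Hom.comp_apply _ _ o).symm.trans ((congr(($(stageLift_upToMap f t r)).base o)).trans ?_)
    exact (Scheme.Hom.comp_apply _ _ o).trans (congrArg (trX f P).base hox)

end Groth.Agent.EtPBC63.Proper0
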