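import Groth.Agent.EtPBC63.Proper0.UnitComp

/-!
# Restriction of sections to global sections of an inverse image along a point of the source
-/

universe u

open CategoryTheory CategoryTheory.Limits AlgebraicGeometry Opposite

namespace Groth.Agent.EtPBC63.Proper0

open EtFound FlatConn

set_option backward.isDefEq.respectTransparency.types false

variable {Z X : Scheme.{u}} (p : Z ⟶ X) (F : EtCoh.Ab X)

/-- The section of `bc p U` given by a map `Z ⟶ U`. -/
noncomputable def sec (U : X.Etale) (m : Z ⟶ U.left) (hm : m ≫ U.hom = p) :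
    EtCoh.top Z ⟶ (EtCoh.bc p).obj U :=
  MorphismProperty.Over.homMk (pullback.lift m (𝟙 Z) (hm.trans (Category.id_comp _).symm))
    (pullback.lift_snd _ _ _) trivial

/-- Restriction of a section over `U` along a map `Z ⟶ U`. -/
noncomputable def res (U : X.Etale) (m : Z ⟶ U.left) (hm : m ≫ U.hom = p) (s : F.obj.obj (op U)) :
    ((EtCoh.pull p).obj F).obj.obj (op (EtCoh.top Z)) :=
  ((EtCoh.pull p).obj F).obj.map (sec p U m hm).op (pb p F U s)

theorem res_congr (U : X.Etale) {m m' : Z ⟶ U.left} (h : m = m') (hm : m ≫ U.hom = p) (s : F.obj.obj (op U)) :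
    res p F U m hm s = res p F U m' (h ▸ hm) s := by subst h; rfl

theorem res_add (U : X.Etale) (m : Z ⟶ U.left) (hm : m ≫ U.hom = p) (s s' : F.obj.obj (op U)) :
    res p F U m hm (s + s') = res p F U m hm s + res p F U m hm s' := by
  show ((EtCoh.pull p).obj F).obj.map _ (pb p F U (s + s')) = _
  rw [show pb p F U (s + s') = pb p F U s + pb p F U s' from map_add _ _ _, map_add]
  rfl

theorem res_zero (U : X.Etale) (m : Z ⟶ U.left) (hm : m ≫ U.hom = p) : res p F U m hm 0 = 0 := by
  show ((EtCoh.pull p).obj F).obj.map _ (pb p F U 0) = 0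
  rw [show pb p F U (0 : F.obj.obj (op U)) = 0 from map_zero _, map_zero]

theorem res_map {U V : X.Etale} (g : V ⟶ U) (m : Z ⟶ V.left) (hm : m ≫ V.hom = p) (s : F.obj.obj (op U)) :
    res p F V m hm (F.obj.map g.op s) = res p F U (m ≫ g.left)
      ((Category.assoc _ _ _).trans ((congrArg (m ≫ ·) (MorphismProperty.Over.w g)).trans hm)) s := by
  unfold res
  rw [pb_map, ← Functor.map_comp_apply, ← op_comp]
  refine congrArg (fun k => ((EtCoh.pull p).obj F).obj.map (Quiver.Hom.op k) (pb p F U s))
    (MorphismProperty.Over.Hom.ext (pullback.hom_ext ?_ ?_))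
  · refine ((Category.assoc _ _ _).trans (congrArg (_ ≫ ·) (EtCoh.isPullback_bc_map p g).w)).trans ?_
    refine (Category.assoc _ _ _).symm.trans ((congrArg (· ≫ g.left) (pullback.lift_fst _ _ _)).trans ?_)
    exact (pullback.lift_fst _ _ _).symm
  · exact (MorphismProperty.Over.w (sec p V m hm ≫ (EtCoh.bc p).map g)).trans
      (MorphismProperty.Over.w (sec p U (m ≫ g.left) _)).symm

/-- Restriction is compatible with composition along a map with bijective unit. -/
theorem exists_transfer {Z' : Scheme.{u}} (j : Z ⟶ Z') (hj : UnitBij j) (q : Z' ⟶ X) (w : j ≫ q = p) :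
    ∃ Ψ : ((EtCoh.pull q).obj F).obj.obj (op (EtCoh.top Z')) → ((EtCoh.pull p).obj F).obj.obj (op (EtCoh.top Z)),
      Function.Bijective Ψ ∧ ∀ (U : X.Etale) (m : Z' ⟶ U.left) (hm : m ≫ U.hom = q) (s : F.obj.obj (op U)),
        Ψ (res q F U m hm s) = res p F U (j ≫ m) ((Category.assoc _ _ _).trans ((congrArg (j ≫ ·) hm).trans w)) s := by
  subst w
  let G := (EtCoh.pull q).obj F
  let Q := (EtCoh.pull j).obj G
  let R := (EtCoh.pull (j ≫ q)).obj F
  let ε := (pullCompAb j q).app F
  let bA := EtCore.bcTopIso j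
  refine ⟨fun x => ε.inv.hom.app (op (EtCoh.top Z)) (Q.obj.map bA.inv.op (pb j G (EtCoh.top Z') x)), ?_, ?_⟩
  · have h1 : Function.Bijective (ε.inv.hom.app (op (EtCoh.top Z))) := by
      rw [← ConcreteCategory.isIso_iff_bijective]
      exact Functor.map_isIso
        (sheafToPresheaf Z.smallEtaleTopology AddCommGrpCat.{u + 1} ⋙ (evaluation _ _).obj (op (EtCoh.top Z))) ε.inv
    exact h1.comp ((bijective_map_iso _ bA.symm).comp (bijective_pb_top hj G))
  · intro U m hm s
    show ε.inv.hom.app (op (EtCoh.top Z)) (Q.obj.map bA.inv.op (pb j G (EtCoh.top Z') (G.obj.map _ (pb q F U s)))) = _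
    rw [pb_map, ← Functor.map_comp_apply, ← op_comp]
    let ρ := (MorphismProperty.Over.pullbackComp (P := EtCoh.etaleMP) (Q := ⊤) j q).hom.app U
    have hk : bA.inv ≫ (EtCoh.bc j).map (sec q U m hm) =
        sec (j ≫ q) U (j ≫ m) ((Category.assoc _ _ _).trans (congrArg (j ≫ ·) hm)) ≫ ρ := by
      apply MorphismProperty.Over.Hom.ext
      have h3 : (bA.inv ≫ (EtCoh.bc j).map (sec q U m hm)).left ≫ pullback.snd ((EtCoh.bc q).obj U).hom j =
          (sec (j ≫ q) U (j ≫ m) ((Category.assoc _ _ _).trans (congrArg (j ≫ ·) hm)) ≫ ρ).left ≫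
            pullback.snd ((EtCoh.bc q).obj U).hom j :=
        (MorphismProperty.Over.w (bA.inv ≫ (EtCoh.bc j).map (sec q U m hm))).trans
          (MorphismProperty.Over.w (sec (j ≫ q) U (j ≫ m) _ ≫ ρ)).symm
      refine pullback.hom_ext (pullback.hom_ext ?_ ?_) h3
      · have hm' : (j ≫ m) ≫ U.hom = j ≫ q := (Category.assoc _ _ _).trans (congrArg (j ≫ ·) hm)
        have eA : bA.inv.left ≫ pullback.fst (EtCoh.top Z').hom j = j :=
          (Category.comp_id _).symm.trans ((Category.assoc _ _ _).trans ((congrArg (bA.inv.left ≫ ·)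
            (pullback.condition (f := (EtCoh.top Z').hom) (g := j))).trans ((Category.assoc _ _ _).symm.trans
              ((congrArg (· ≫ j) (MorphismProperty.Over.w bA.inv)).trans (Category.id_comp j)))))
        have eL : (bA.inv ≫ (EtCoh.bc j).map (sec q U m hm)).left ≫ pullback.fst ((EtCoh.bc q).obj U).hom j =
            j ≫ (sec q U m hm).left :=
          (Category.assoc _ _ _).trans ((congrArg (bA.inv.left ≫ ·) (EtCoh.isPullback_bc_map j (sec q U m hm)).w).trans
            ((Category.assoc _ _ _).symm.trans (congrArg (· ≫ (sec q U m hm).left) eA)))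
        have eL' : ((bA.inv ≫ (EtCoh.bc j).map (sec q U m hm)).left ≫ pullback.fst ((EtCoh.bc q).obj U).hom j) ≫
            pullback.fst U.hom q = j ≫ m :=
          (congrArg (· ≫ pullback.fst U.hom q) eL).trans ((Category.assoc _ _ _).trans
            (congrArg (j ≫ ·) (pullback.lift_fst _ _ _)))
        have eR : ((sec (j ≫ q) U (j ≫ m) hm' ≫ ρ).left ≫ pullback.fst ((EtCoh.bc q).obj U).hom j) ≫
            pullback.fst U.hom q = j ≫ m :=
          (Category.assoc _ _ _).trans ((Category.assoc _ _ _).trans ((congrArg ((sec (j ≫ q) U (j ≫ m) hm').left ≫ ·)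
            (MorphismProperty.Over.pullbackComp_left_fst_fst (P := EtCoh.etaleMP) (Q := ⊤) j q U)).trans
              (pullback.lift_fst _ _ _)))
        exact eL'.trans eR.symm
      · refine (Category.assoc _ _ _).trans ((congrArg (_ ≫ ·) pullback.condition).trans ?_)
        refine (Category.assoc _ _ _).symm.trans ((congrArg (· ≫ j) h3).trans ?_)
        exact ((Category.assoc _ _ _).trans ((congrArg (_ ≫ ·) pullback.condition).trans (Category.assoc _ _ _).symm)).symm
    refine (congrArg (fun k => ε.inv.hom.app (op (EtCoh.top Z)) (Q.obj.map (Quiver.Hom.op k)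
      (pb j G ((EtCoh.bc q).obj U) (pb q F U s)))) hk).trans ?_
    refine (congrArg (ε.inv.hom.app (op (EtCoh.top Z))) ((ConcreteCategory.congr_hom (Q.obj.map_comp ρ.op
      (sec (j ≫ q) U (j ≫ m) ((Category.assoc _ _ _).trans (congrArg (j ≫ ·) hm))).op)
      (pb j G ((EtCoh.bc q).obj U) (pb q F U s))).trans ((ConcreteCategory.comp_apply _ _ _).trans
        (congrArg (Q.obj.map _) (SepClosedBC.pb_comp q j F U s).symm)))).trans ?_
    refine (congrArg (ε.inv.hom.app (op (EtCoh.top Z))) (NatTrans.naturality_apply ε.hom.hom _ _).symm).trans ?_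
    show (ε.hom ≫ ε.inv).hom.app (op (EtCoh.top Z)) _ = _
    rw [ε.hom_inv_id]
    rfl

/-- Restriction of a section of an inverse image coming from the base. -/
theorem exists_pullTransfer {Z X' : Scheme.{u}} (p' : Z ⟶ X') (q : X' ⟶ X) :
    ∃ Φ : ((EtCoh.pull (p' ≫ q)).obj F).obj.obj (op (EtCoh.top Z)) →
        ((EtCoh.pull p').obj ((EtCoh.pull q).obj F)).obj.obj (op (EtCoh.top Z)),
      Function.Bijective Φ ∧ ∀ (U : X.Etale) (m : Z ⟶ ((EtCoh.bc q).obj U).left)
        (hm : m ≫ ((EtCoh.bc q).obj U).hom = p')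
        (hm₀ : (m ≫ pullback.fst U.hom q) ≫ U.hom = p' ≫ q) (s : F.obj.obj (op U)),
        res p' ((EtCoh.pull q).obj F) ((EtCoh.bc q).obj U) m hm (pb q F U s) =
          Φ (res (p' ≫ q) F U (m ≫ pullback.fst U.hom q) hm₀ s) := by
  let Q := (EtCoh.pull p').obj ((EtCoh.pull q).obj F)
  let ε := (pullCompAb p' q).app F
  refine ⟨ε.hom.hom.app (op (EtCoh.top Z)), ?_, ?_⟩
  · rw [← ConcreteCategory.isIso_iff_bijective]
    exact Functor.map_isIso
      (sheafToPresheaf Z.smallEtaleTopology AddCommGrpCat.{u + 1} ⋙ (evaluation _ _).obj (op (EtCoh.top Z))) ε.hom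
  · intro U m hm hm₀ s
    let ρ := (MorphismProperty.Over.pullbackComp (P := EtCoh.etaleMP) (Q := ⊤) p' q).hom.app U
    have hk : sec (p' ≫ q) U (m ≫ pullback.fst U.hom q) hm₀ ≫ ρ = sec p' ((EtCoh.bc q).obj U) m hm := by
      apply MorphismProperty.Over.Hom.ext
      have h3 : (sec (p' ≫ q) U (m ≫ pullback.fst U.hom q) hm₀ ≫ ρ).left ≫
          pullback.snd ((EtCoh.bc q).obj U).hom p' =
          (sec p' ((EtCoh.bc q).obj U) m hm).left ≫ pullback.snd ((EtCoh.bc q).obj U).hom p' :=
        (MorphismProperty.Over.w (sec (p' ≫ q) U (m ≫ pullback.fst U.hom q) hm₀ ≫ ρ)).trans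
          (MorphismProperty.Over.w (sec p' ((EtCoh.bc q).obj U) m hm)).symm
      refine pullback.hom_ext (pullback.hom_ext ?_ ?_) h3
      · refine ((Category.assoc _ _ _).trans ((Category.assoc _ _ _).trans
          ((congrArg ((sec (p' ≫ q) U (m ≫ pullback.fst U.hom q) hm₀).left ≫ ·)
            (MorphismProperty.Over.pullbackComp_left_fst_fst (P := EtCoh.etaleMP) (Q := ⊤) p' q U)).trans
              (pullback.lift_fst _ _ _)))).trans ?_
        exact (congrArg (· ≫ pullback.fst U.hom q) (pullback.lift_fst _ _ _)).symm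
      · refine (Category.assoc _ _ _).trans ((congrArg (_ ≫ ·) pullback.condition).trans ?_)
        refine (Category.assoc _ _ _).symm.trans ((congrArg (· ≫ p') h3).trans ?_)
        exact ((Category.assoc _ _ _).trans ((congrArg (_ ≫ ·) pullback.condition).trans (Category.assoc _ _ _).symm)).symm
    unfold res
    rw [← hk]
    refine ((ConcreteCategory.congr_hom (Q.obj.map_comp ρ.op
      (sec (p' ≫ q) U (m ≫ pullback.fst U.hom q) hm₀).op) _).trans ((ConcreteCategory.comp_apply _ _ _).trans
        (congrArg (Q.obj.map _) (SepClosedBC.pb_comp q p' F U s).symm))).trans ?_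
    exact (NatTrans.naturality_apply ε.hom.hom _ _).symm

end Groth.Agent.EtPBC63.Proper0
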