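import Groth.Agent.EtPBC63.Proper0.Glue
import Groth.Agent.EtPBC63.Proper0.Fibre
import Groth.Agent.EtPBC63.Proper0.Res

/-!
# The stalk of a proper direct image is the group of sections on the geometric fibre
-/

universe u

open CategoryTheory CategoryTheory.Limits AlgebraicGeometry Opposite

namespace Groth.Agent.EtPBC63.Proper0

open EtFound FlatConn EtLC12.StrictStalk

set_option backward.isDefEq.respectTransparency.types false

variable {X Y : Scheme.{u}} (f : X ⟶ Y) {Ω : Type u} [Field Ω] [IsSepClosed Ω]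
  (ξ : Spec (CommRingCat.of Ω) ⟶ Y) (F : EtCoh.Ab X)

/-- The map of the geometric fibre to a neighbourhood. -/
noncomputable def mV (V : Y.Etale) (v : (Scheme.pointSmallEtale ξ).fiber.obj V) :
    pullback f ξ ⟶ ((EtCoh.bc f).obj V).left :=
  (pullback.lift (pullback.snd f ξ ≫ (v.left : Spec (CommRingCat.of Ω) ⟶ V.left)) (pullback.fst f ξ) (by
    have h : (v.left : Spec (CommRingCat.of Ω) ⟶ V.left) ≫ V.hom = ξ := CategoryTheory.Over.w v
    exact (Category.assoc _ _ _).trans ((congrArg (pullback.snd f ξ ≫ ·) h).trans pullback.condition.symm)) :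
      pullback f ξ ⟶ pullback V.hom f)

theorem mV_hom (V : Y.Etale) (v : (Scheme.pointSmallEtale ξ).fiber.obj V) :
    mV f ξ V v ≫ ((EtCoh.bc f).obj V).hom = pullback.fst f ξ := pullback.lift_snd _ _ _

theorem mV_map {U V : Y.Etale} (g : V ⟶ U) (v : (Scheme.pointSmallEtale ξ).fiber.obj V) :
    mV f ξ V v ≫ ((EtCoh.bc f).map g).left = mV f ξ U ((Scheme.pointSmallEtale ξ).fiber.map g v) := by
  refine pullback.hom_ext ?_ ?_
  · refine ((Category.assoc _ _ _).trans (congrArg (mV f ξ V v ≫ ·) (EtCoh.isPullback_bc_map f g).w)).trans ?_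
    refine (Category.assoc _ _ _).symm.trans ((congrArg (· ≫ g.left) (pullback.lift_fst _ _ _)).trans ?_)
    exact (Category.assoc _ _ _).trans (pullback.lift_fst _ _ _).symm
  · refine ((Category.assoc _ _ _).trans (congrArg (mV f ξ V v ≫ ·)
      (MorphismProperty.Over.w ((EtCoh.bc f).map g)))).trans ?_
    exact (mV_hom f ξ V v).trans (mV_hom f ξ U _).symm

theorem mV_pt (N : Nbhd ξ) : mV f ξ N.obj N.pt = prFib f ξ ≫ trX f N := by
  refine pullback.hom_ext ?_ ?_
  · refine (pullback.lift_fst _ _ _).trans (Eq.symm ?_)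
    refine ((Category.assoc _ _ _).trans (congrArg (prFib f ξ ≫ ·) (trX_fst f N))).trans ?_
    refine (Category.assoc _ _ _).symm.trans ((congrArg (· ≫ Spec.map N.germ) (prFib_snd f ξ)).trans ?_)
    exact (Category.assoc _ _ _).trans (congrArg (pullback.snd f ξ ≫ ·) (specMap_ev_germ N))
  · refine (pullback.lift_snd _ _ _).trans (Eq.symm ?_)
    exact ((Category.assoc _ _ _).trans (congrArg (prFib f ξ ≫ ·) (trX_hom f N))).trans (prFib_fst f ξ)

/-- The comparison map from the stalk of the direct image to sections on the geometric fibre. -/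
noncomputable def cmp :
    (EtCoh.stalk ξ).obj ((EtCoh.push f).obj F) ⟶
      ((EtCoh.pull (pullback.fst f ξ)).obj F).obj.obj (op (EtCoh.top (pullback f ξ))) :=
  (Scheme.pointSmallEtale ξ).presheafFiberDesc
    (fun V v => AddCommGrpCat.ofHom
      (AddMonoidHom.mk' (res (pullback.fst f ξ) F ((EtCoh.bc f).obj V) (mV f ξ V v) (mV_hom f ξ V v))
        (res_add _ _ _ _ _)))
    (fun {U V} g v => by
      ext s
      show res _ F ((EtCoh.bc f).obj U) (mV f ξ U v) _ (F.obj.map ((EtCoh.bc f).map g).op s) = _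
      rw [res_map, res_congr _ _ _ (mV_map f ξ g v)]
      rfl)

theorem cmp_germ (V : Y.Etale) (v : (Scheme.pointSmallEtale ξ).fiber.obj V)
    (s : F.obj.obj (op ((EtCoh.bc f).obj V))) :
    cmp f ξ F ((Scheme.pointSmallEtale ξ).toPresheafFiber V v ((EtCoh.push f).obj F).obj s) =
      res (pullback.fst f ξ) F ((EtCoh.bc f).obj V) (mV f ξ V v) (mV_hom f ξ V v) s :=
  (ConcreteCategory.comp_apply _ _ _).symm.trans (ConcreteCategory.congr_hom
    ((Scheme.pointSmallEtale ξ).toPresheafFiber_presheafFiberDesc (P := ((EtCoh.push f).obj F).obj) _ _ V v) s)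

theorem exists_germ_nbhd (c : (EtCoh.stalk ξ).obj ((EtCoh.push f).obj F)) :
    ∃ (N : Nbhd ξ) (s : F.obj.obj (op (XP f N))),
      (Scheme.pointSmallEtale ξ).toPresheafFiber N.obj N.pt ((EtCoh.push f).obj F).obj s = c := by
  obtain ⟨V, v, s, rfl⟩ := (Scheme.pointSmallEtale ξ).toPresheafFiber_jointly_surjective c
  obtain ⟨N, j, rfl⟩ := exists_nbhd V v
  exact ⟨N, ((EtCoh.push f).obj F).obj.map j.op s, (Scheme.pointSmallEtale ξ).toPresheafFiber_w_apply j N.pt _ s⟩

theorem bijective_cmp [IsProper f] : Function.Bijective (cmp f ξ F) := by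
  obtain ⟨Ψ, hΨ, hΨres⟩ := exists_transfer (pullback.fst f ξ) F (prFib f ξ) (unitBij_prFib f ξ) (pA f ξ) (prFib_fst f ξ)
  have key : ∀ (N : Nbhd ξ) (s : F.obj.obj (op (XP f N))),
      cmp f ξ F ((Scheme.pointSmallEtale ξ).toPresheafFiber N.obj N.pt ((EtCoh.push f).obj F).obj s) =
        Ψ (res (pA f ξ) F (XP f N) (trX f N) (trX_hom f N) s) := fun N s => by
    rw [hΨres, cmp_germ]
    exact res_congr _ _ _ (mV_pt f ξ N) _ s
  refine ⟨(injective_iff_map_eq_zero _).mpr fun c hc => ?_, fun t => ?_⟩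
  · obtain ⟨N, s, rfl⟩ := exists_germ_nbhd f ξ F c
    rw [key] at hc
    have h0 : Ψ (res (pA f ξ) F (XP f N) (trX f N) (trX_hom f N) 0) = 0 := by
      rw [hΨres, res_zero]
    have hs := hΨ.1 (hc.trans h0.symm)
    rw [res_zero] at hs
    obtain ⟨P, r, hr⟩ := exists_refine_zero f F s hs
    have hpt : (Scheme.pointSmallEtale ξ).fiber.map (refineHom r) P.pt = N.pt := by
      apply CategoryTheory.Over.OverMorphism.ext
      show Spec.map P.φ ≫ Spec.map r.ψ = Spec.map N.φ
      rw [← Spec.map_comp, r.w_φ]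
    refine ((congrArg (fun z => (Scheme.pointSmallEtale ξ).toPresheafFiber N.obj z ((EtCoh.push f).obj F).obj s)
      hpt.symm).trans ((Scheme.pointSmallEtale ξ).toPresheafFiber_w_apply (refineHom r) P.pt
        ((EtCoh.push f).obj F).obj s).symm).trans ?_
    exact (congrArg _ hr).trans (map_zero _)
  · obtain ⟨τ, rfl⟩ := hΨ.2 t
    obtain ⟨P, s, hs⟩ := exists_stage_section f F τ
    exact ⟨_, (key P s).trans (congrArg Ψ hs)⟩

theorem isIso_cmp [IsProper f] : IsIso (cmp f ξ F) :=
  (ConcreteCategory.isIso_iff_bijective _).mpr (bijective_cmp f ξ F)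

end Groth.Agent.EtPBC63.Proper0
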