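import Groth.Agent.EtPBC63.SepClosedBC.Restrict

/-!
# Bijectivity of units on global sections for composites
-/

universe u

open CategoryTheory CategoryTheory.Limits AlgebraicGeometry Opposite

namespace Groth.Agent.EtPBC63.Proper0

open EtFound Gabber FlatConn

set_option backward.isDefEq.respectTransparency.types false

/-- The unit on global sections of pullback along `f` is bijective for all sheaves. -/
def UnitBij {T S : Scheme.{u}} (f : T ⟶ S) : Prop :=
  ∀ F : EtCoh.Ab S, Function.Bijective (((EtCoh.pullPushAdj f).unit.app F).hom.app (op (EtCoh.top S)))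

theorem bijective_map_iso {T : Scheme.{u}} (F : EtCoh.Ab T) {U V : T.Etale} (e : U ≅ V) :
    Function.Bijective (F.obj.map e.hom.op) :=
  (ConcreteCategory.isIso_iff_bijective (F.obj.map e.hom.op)).mp inferInstance

theorem bijective_pb_top {T S : Scheme.{u}} {f : T ⟶ S} (h : UnitBij f) (F : EtCoh.Ab S) :
    Function.Bijective (pb f F (EtCoh.top S)) := h F

theorem bijective_pb_of_iso {T S : Scheme.{u}} {f : T ⟶ S} (h : UnitBij f) (F : EtCoh.Ab S) {U : S.Etale}
    (e : U ≅ EtCoh.top S) : Function.Bijective (pb f F U) := by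
  have hcomp : pb f F U ∘ F.obj.map e.hom.op =
      ((EtCoh.pull f).obj F).obj.map ((EtCoh.bc f).mapIso e).hom.op ∘ pb f F (EtCoh.top S) :=
    funext fun s => pb_map f F e.hom s
  refine (Function.Bijective.of_comp_iff _ (bijective_map_iso F e)).mp ?_
  rw [hcomp]
  exact (bijective_map_iso _ ((EtCoh.bc f).mapIso e)).comp (bijective_pb_top h F)

theorem UnitBij.comp {A Y T : Scheme.{u}} {i : A ⟶ Y} {e : Y ⟶ T} (hi : UnitBij i) (he : UnitBij e) :
    UnitBij (i ≫ e) := by
  intro F
  let ε := (pullCompAb i e).app F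
  let ρ := ((MorphismProperty.Over.pullbackComp (P := EtCoh.etaleMP) (Q := ⊤) i e).app (EtCoh.top T))
  have h1 : Function.Bijective (ε.hom.hom.app (op ((EtCoh.bc (i ≫ e)).obj (EtCoh.top T)))) := by
    rw [← ConcreteCategory.isIso_iff_bijective]
    exact Functor.map_isIso
      (sheafToPresheaf A.smallEtaleTopology AddCommGrpCat.{u + 1} ⋙
        (evaluation _ _).obj (op ((EtCoh.bc (i ≫ e)).obj (EtCoh.top T)))) ε.hom
  have hcomp : ε.hom.hom.app (op ((EtCoh.bc (i ≫ e)).obj (EtCoh.top T))) ∘ pb (i ≫ e) F (EtCoh.top T) =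
      ((EtCoh.pull i).obj ((EtCoh.pull e).obj F)).obj.map ρ.hom.op ∘
        pb i ((EtCoh.pull e).obj F) ((EtCoh.bc e).obj (EtCoh.top T)) ∘ pb e F (EtCoh.top T) :=
    funext fun s => SepClosedBC.pb_comp e i F _ s
  refine (Function.Bijective.of_comp_iff' h1 (pb (i ≫ e) F (EtCoh.top T))).mp ?_
  rw [hcomp]
  exact (bijective_map_iso _ ρ).comp
    ((bijective_pb_of_iso hi _ (EtCore.bcTopIso e)).comp (bijective_pb_top he F))

theorem unitBij_of_isIso {T S : Scheme.{u}} (f : T ⟶ S) [IsIso f] : UnitBij f := fun F =>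
  FlatConn.bijective_unit f F fun K _ _ s =>
    ((asIso (pullback.snd f s)).hom.homeomorph.connectedSpace_iff).mpr inferInstance

end Groth.Agent.EtPBC63.Proper0
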